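import Cfsg.Agent.H125.PIndex
import Cfsg.Agent.H353.TwoOrthSyl
import Cfsg.Agent.H353.TwoOrthCount

/-!
# The stabilizer of a singular point of an orthogonal group as a local subgroup (helper125)

`loc` : `PIndex.Loc p P R L` for `G = E Q`, `dim V ≥ 7`: `P` the stabilizer of the line of a singular vector `x`,
`R` the group of the Siegel transformations with centre `x`, `L` the image of `E (x, x')^⊥`.
-/

set_option autoImplicit false
set_option linter.unusedSectionVars false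
set_option linter.unusedVariables false

namespace Cfsg.Agent.H125.OrthLoc

open QuadraticMap Cfsg.Agent.LieClassical.OrthCore Cfsg.Agent.LieClassical.OrthTrans
open Cfsg.Agent.LieClassical.OrthFinite Cfsg.Agent.H955 Cfsg.Agent.GenOrth Cfsg.Agent.H353.TwoOrth

variable {F V : Type*} [Field F] [AddCommGroup V] [Module F V] {Q : QuadraticForm F V} {x x' : V}

/-- the stabilizer of a line -/
def PL (Q : QuadraticForm F V) (x : V) : Subgroup ↥(E Q) where
  carrier := {g | ∃ c : F, c ≠ 0 ∧ (g : V ≃ₗ[F] V) x = c • x}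
  one_mem' := ⟨1, one_ne_zero, by rw [one_smul]; rfl⟩
  mul_mem' := by
    rintro g h ⟨c, hc, hgc⟩ ⟨d, hd, hhd⟩
    refine ⟨c * d, mul_ne_zero hc hd, ?_⟩
    show (g : V ≃ₗ[F] V) ((h : V ≃ₗ[F] V) x) = _
    rw [hhd, map_smul, hgc, smul_smul, mul_comm]
  inv_mem' := by
    rintro g ⟨c, hc, hgc⟩
    refine ⟨c⁻¹, inv_ne_zero hc, ?_⟩
    show (g : V ≃ₗ[F] V).symm x = _
    rw [LinearEquiv.symm_apply_eq, map_smul, hgc, smul_smul, inv_mul_cancel₀ hc, one_smul]

theorem mem_PL {g : ↥(E Q)} : g ∈ PL Q x ↔ ∃ c : F, c ≠ 0 ∧ (g : V ≃ₗ[F] V) x = c • x := Iff.rfl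

/-- the Siegel group -/
abbrev RG (hx : Q x = 0) : Subgroup ↥(E Q) := (sgE hx).range

/-- the Levi factor -/
abbrev LG (hQ : Nondeg Q) (h : Hyp Q x x') : Subgroup ↥(E Q) := (embPerp hQ h).extE.range

theorem sg_fix (hx : Q x = 0) {w : V} (hw : polar Q x w = 0) :
    (sgE hx (Multiplicative.ofAdd ⟨w, mem_pp.2 hw⟩) : V ≃ₗ[F] V) x = x := by
  rw [sgE_apply' hx hw, polar_self_of_sing hx, polar_comm Q w x, hw]
  simp

theorem RG_le_PL (hx : Q x = 0) : RG hx ≤ PL Q x := by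
  intro g hg
  obtain ⟨w, hw, rfl⟩ := mem_range_sgE.1 hg
  exact ⟨1, one_ne_zero, by rw [sg_fix hx hw, one_smul]⟩

theorem LG_fix (hQ : Nondeg Q) (h : Hyp Q x x') {g : ↥(E Q)} (hg : g ∈ LG hQ h) :
    (g : V ≃ₗ[F] V) x = x ∧ (g : V ≃ₗ[F] V) x' = x' := by
  obtain ⟨k, rfl⟩ := hg
  exact ⟨(embPerp hQ h).ext_of_π_eq_zero _ (prj_left h), (embPerp hQ h).ext_of_π_eq_zero _ (prj_right h)⟩

theorem LG_le_PL (hQ : Nondeg Q) (h : Hyp Q x x') : LG hQ h ≤ PL Q x := fun g hg =>
  ⟨1, one_ne_zero, by rw [(LG_fix hQ h hg).1, one_smul]⟩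

/-- conjugation of Siegel elements by the stabilizer of the line -/
theorem conj_sg {g : ↥(E Q)} {c : F} (hx : Q x = 0) (hgx : (g : V ≃ₗ[F] V) x = c • x) {w : V}
    (hw : polar Q x w = 0) (hw' : polar Q x (c • (g : V ≃ₗ[F] V) w) = 0) :
    g * sgE hx (Multiplicative.ofAdd ⟨w, mem_pp.2 hw⟩) * g⁻¹ =
      sgE hx (Multiplicative.ofAdd ⟨c • (g : V ≃ₗ[F] V) w, mem_pp.2 hw'⟩) := by
  apply Subtype.ext
  apply LinearEquiv.ext
  intro v
  rw [conj_sgE hx hw, sgE_apply' hx hw', hgx, QuadraticMap.map_smul, mem_O.1 (E_le_O g.2)]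
  simp only [polar_smul_left, smul_eq_mul, smul_smul]
  congr 1
  · congr 1
    · rw [mul_comm]
    · rw [mul_comm]
  · congr 1
    ring

theorem perp_smul_map {g : ↥(E Q)} {c : F} (hgx : (g : V ≃ₗ[F] V) x = c • x) {w : V}
    (hw : polar Q x w = 0) : polar Q x (c • (g : V ≃ₗ[F] V) w) = 0 := by
  have h1 := polar_map (E_le_O g.2) x w
  rw [hgx, polar_smul_left, hw] at h1
  rw [polar_smul_right]
  exact h1

theorem PR (hx : Q x = 0) {m r : ↥(E Q)} (hm : m ∈ PL Q x) (hr : r ∈ RG hx) : m * r * m⁻¹ ∈ RG hx := by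
  obtain ⟨c, hc, hmc⟩ := hm
  obtain ⟨w, hw, rfl⟩ := mem_range_sgE.1 hr
  have hw' := perp_smul_map hmc hw
  exact mem_range_sgE.2 ⟨_, hw', (conj_sg hx hmc hw hw').symm⟩

theorem RG_comm (hx : Q x = 0) {r s : ↥(E Q)} (hr : r ∈ RG hx) (hs : s ∈ RG hx) : r * s = s * r := by
  obtain ⟨a, rfl⟩ := hr
  obtain ⟨b, rfl⟩ := hs
  rw [← map_mul, ← map_mul, mul_comm]

theorem RG_pgroup (p : ℕ) [CharP F p] (hx : Q x = 0) : IsPGroup p (RG hx) :=
  IsPGroup.of_surjective (pp_pgroup p x) _ (sgE hx).rangeRestrict_surjective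

/-- an element of the stabilizer of the line is a Siegel element times an element acting on the hyperbolic pair -/
theorem exists_decomp (h : Hyp Q x x') {m : ↥(E Q)} {c : F} (hc : c ≠ 0) (hm : (m : V ≃ₗ[F] V) x = c • x) :
    ∃ r ∈ RG h.left, ∃ d : ↥(E Q), m = r * d ∧ (d : V ≃ₗ[F] V) x = c • x ∧ (d : V ≃ₗ[F] V) x' = c⁻¹ • x' := by
  have h1 : Hyp Q x (c • (m : V ≃ₗ[F] V) x') := by
    have h2 := h.map (E_le_O m.2)
    rw [hm] at h2
    refine ⟨h.left, by rw [QuadraticMap.map_smul, h2.right, smul_zero], ?_⟩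
    have h3 := h2.pair
    rw [polar_smul_left] at h3
    rw [polar_smul_right]
    exact h3
  have hw : polar Q x (c • (m : V ≃ₗ[F] V) x' - x') = 0 := by
    rw [polar_sub_right, h.pair, h1.pair, sub_self]
  set y' := c • (m : V ≃ₗ[F] V) x' with hy'
  have e1 : (sgE h.left (Multiplicative.ofAdd ⟨y' - x', mem_pp.2 hw⟩) : V ≃ₗ[F] V) x' = y' := by
    have hQ' : Q (y' - x') = - polar Q y' x' := by
      rw [sub_eq_add_neg, Q_add, QuadraticMap.map_neg, polar_neg_right, h.right, h1.right]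
      ring
    rw [sgE_apply' h.left hw, h.pair, hQ', polar_sub_left, h.polar_right]
    module
  set r := sgE h.left (Multiplicative.ofAdd ⟨y' - x', mem_pp.2 hw⟩) with hr
  have hrx : (r : V ≃ₗ[F] V) x = x := sg_fix h.left hw
  refine ⟨r, ⟨_, rfl⟩, r⁻¹ * m, by group, ?_, ?_⟩
  · show (r : V ≃ₗ[F] V).symm ((m : V ≃ₗ[F] V) x) = _
    rw [hm, LinearEquiv.symm_apply_eq, map_smul, hrx]
  · show (r : V ≃ₗ[F] V).symm ((m : V ≃ₗ[F] V) x') = _
    rw [LinearEquiv.symm_apply_eq, map_smul, e1, hy', smul_smul, inv_mul_cancel₀ hc, one_smul]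

/-- such an element normalises `L` -/
theorem normL (hQ : Nondeg Q) (h : Hyp Q x x') {d l : ↥(E Q)} {c : F} (hc : c ≠ 0)
    (h1 : (d : V ≃ₗ[F] V) x = c • x) (h2 : (d : V ≃ₗ[F] V) x' = c⁻¹ • x') (hl : l ∈ LG hQ h) :
    d * l * d⁻¹ ∈ LG hQ h := by
  obtain ⟨k, rfl⟩ := hl
  have hdO := E_le_O d.2
  have h3 : ∀ v, polar Q x' ((d : V ≃ₗ[F] V) v) = c * polar Q x' v := by
    intro v
    have := polar_map hdO x' v
    rw [h2, polar_smul_left, smul_eq_mul] at this
    rw [← this, ← mul_assoc, mul_inv_cancel₀ hc, one_mul]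
  have h4 : ∀ v, polar Q x ((d : V ≃ₗ[F] V) v) = c⁻¹ * polar Q x v := by
    intro v
    have := polar_map hdO x v
    rw [h1, polar_smul_left, smul_eq_mul] at this
    rw [← this, ← mul_assoc, inv_mul_cancel₀ hc, one_mul]
  obtain ⟨g', hg', e1, e2⟩ := (embPerp hQ h).exists_restrict hdO (by
    intro v
    show (d : V ≃ₗ[F] V) (prj h v : V) = (prj h ((d : V ≃ₗ[F] V) v) : V)
    rw [prj_coe, prj_coe, map_sub, map_sub, map_smul, map_smul, h1, h2, h3, h4, smul_smul, smul_smul]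
    congr 1
    · congr 2
      rw [mul_comm]
    · congr 1
      rw [mul_comm])
  have h5 := (embPerp hQ h).conj_ext e1 e2 (k : hperp Q x x' ≃ₗ[F] hperp Q x x')
  refine ⟨⟨g' * (k : hperp Q x x' ≃ₗ[F] hperp Q x x') * g'⁻¹, conj_mem_E hg' k.2⟩, ?_⟩
  apply Subtype.ext
  exact h5.symm

theorem PLL (hQ : Nondeg Q) (h : Hyp Q x x') {m l : ↥(E Q)} (hm : m ∈ PL Q x) (hl : l ∈ LG hQ h) :
    m * l * m⁻¹ ∈ RG h.left ⊔ LG hQ h := by
  obtain ⟨c, hc, hmc⟩ := hm
  obtain ⟨r, hr, d, rfl, h1, h2⟩ := exists_decomp h hc hmc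
  have h3 := normL hQ h hc h1 h2 hl
  have e : r * d * l * (r * d)⁻¹ = r * (d * l * d⁻¹) * r⁻¹ := by group
  rw [e]
  exact mul_mem (mul_mem (Subgroup.mem_sup_left hr) (Subgroup.mem_sup_right h3))
    (inv_mem (Subgroup.mem_sup_left hr))

/-- the conjugates of `R` generate -/
theorem gen (hG : Good Q) (hx : Q x = 0) (hx0 : x ≠ 0) (K : Subgroup ↥(E Q))
    (hK : ∀ g : ↥(E Q), ∀ r ∈ RG hx, g * r * g⁻¹ ∈ K) : K = ⊤ := by
  have h1 : Subgroup.closure (siegelSet Q) ≤ K.map (E Q).subtype := by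
    rw [Subgroup.closure_le]
    rintro _ ⟨u, w, hu, hw, rfl⟩
    by_cases hu0 : u = 0
    · refine ⟨1, one_mem _, ?_⟩
      apply LinearEquiv.ext
      intro v
      rw [siegel_apply, hu0]
      simp
    · obtain ⟨g, hg, hgx⟩ := hG.trans_sing hx hu hx0 hu0
      have hw' : polar Q x (g.symm w) = 0 := by
        rw [← polar_map (E_le_O hg) x, LinearEquiv.apply_symm_apply, hgx, hw]
      refine ⟨_, hK ⟨g, hg⟩ _ ⟨Multiplicative.ofAdd ⟨g.symm w, mem_pp.2 hw'⟩, rfl⟩, ?_⟩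
      apply LinearEquiv.ext
      intro v
      have h2 := conj_sgE hx hw' ⟨g, hg⟩ v
      refine h2.trans ?_
      have h3 : Q (g.symm w) = Q w := by
        rw [← mem_O.1 (E_le_O hg), LinearEquiv.apply_symm_apply]
      have h4 : ((⟨g, hg⟩ : ↥(E Q)) : V ≃ₗ[F] V) = g := rfl
      rw [siegel_apply, h4, hgx, h3, LinearEquiv.apply_symm_apply]
  rw [eq_top_iff]
  intro g _
  obtain ⟨k, hk, e⟩ := h1 g.2
  have : k = g := Subtype.ext e
  rwa [← this]

/-- the Siegel element of a vector of the complement -/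
def sW (h : Hyp Q x x') (w : hperp Q x x') : ↥(E Q) := sgE h.left (Multiplicative.ofAdd ⟨(w : V), mem_pp.2 w.2.1⟩)

theorem sW_apply (h : Hyp Q x x') (w : hperp Q x x') (v : V) :
    (sW h w : V ≃ₗ[F] V) v = v + polar Q x v • (w : V) - polar Q (w : V) v • x - (Q (w : V) * polar Q x v) • x :=
  sgE_apply' h.left w.2.1 v

theorem sW_add (h : Hyp Q x x') (u w : hperp Q x x') : sW h (u + w) = sW h u * sW h w := by
  unfold sW
  rw [← map_mul]
  rfl

theorem sW_zero (h : Hyp Q x x') : sW h 0 = 1 := by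
  have h1 := sW_add h 0 0
  rw [add_zero] at h1
  exact (left_eq_mul.1 h1)

theorem sW_injective (h : Hyp Q x x') : Function.Injective (sW h) := by
  intro u w huw
  have h1 : (sW h u : V ≃ₗ[F] V) x' = (sW h w : V ≃ₗ[F] V) x' := by rw [huw]
  rw [sW_apply, sW_apply, h.pair, polar_comm Q _ x', u.2.2, polar_comm Q _ x', w.2.2] at h1
  have h2 := congrArg (prj h) h1
  have hx := prj_left h
  have e : ∀ w : hperp Q x x', prj h (w : V) = w := by
    intro w
    apply Subtype.ext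
    rw [prj_coe, w.2.1, w.2.2]
    simp
  simp only [map_sub, map_add, map_smul, hx, prj_right h, e] at h2
  simpa using h2

theorem mem_RG_iff (h : Hyp Q x x') {g : ↥(E Q)} : g ∈ RG h.left ↔ ∃ w, sW h w = g := by
  constructor
  · intro hg
    obtain ⟨w, hw, rfl⟩ := mem_range_sgE.1 hg
    refine ⟨prj h w, ?_⟩
    apply Subtype.ext
    apply LinearEquiv.ext
    intro v
    rw [sW_apply, sgE_apply' _ hw, prj_coe, hw, zero_smul, sub_zero]
    have h1 : Q (w - polar Q x' w • x) = Q w := by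
      rw [sub_eq_add_neg, ← neg_smul, Q_add, QuadraticMap.map_smul, h.left, polar_smul_right, polar_comm Q w x, hw]
      simp
    rw [h1, polar_sub_left, polar_smul_left, smul_eq_mul]
    module
  · rintro ⟨w, rfl⟩
    exact ⟨_, rfl⟩

/-- action of `L` on `R` -/
theorem conj_sW (hQ : Nondeg Q) (h : Hyp Q x x') (g : ↥(E (res Q (hperp Q x x')))) (w : hperp Q x x') :
    (embPerp hQ h).extE g * sW h w * ((embPerp hQ h).extE g)⁻¹ =
      sW h ((g : hperp Q x x' ≃ₗ[F] hperp Q x x') w) := by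
  have h1 := (LG_fix hQ h ⟨g, rfl⟩).1
  have h2 : ((embPerp hQ h).extE g : V ≃ₗ[F] V) (w : V) = ((g : hperp Q x x' ≃ₗ[F] hperp Q x x') w : V) :=
    (embPerp hQ h).ext_j g w
  apply Subtype.ext
  apply LinearEquiv.ext
  intro v
  have h3 := conj_sgE h.left w.2.1 ((embPerp hQ h).extE g) v
  refine h3.trans ?_
  rw [h1, h2, sW_apply]
  have h4 : Q ((g : hperp Q x x' ≃ₗ[F] hperp Q x x') w : V) = Q (w : V) := mem_O.1 (E_le_O g.2) w
  rw [h4]

/-- an `E W`-invariant additive subgroup of `W` is trivial -/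
theorem irr_add [Finite F] {W : Type*} [AddCommGroup W] [Module F W] {R : QuadraticForm F W} (hG : Good R)
    (B : AddSubgroup W) (hB : ∀ g ∈ E R, ∀ w ∈ B, g w ∈ B) (hne : ∃ w ∈ B, w ≠ 0) : B = ⊤ := by
  obtain ⟨w, hw, hw0⟩ := hne
  obtain ⟨s, hs⟩ := hG.nondeg.exists_polar_eq hw0 1
  obtain ⟨u, hu0, hu, hus⟩ := exists_sing_perp (Q := R) ![w, s] (by have := hG.dim; omega)
  have h1 : polar R w u = 0 := hus 0
  have h2 : polar R s u = 0 := hus 1
  have h3 : ∀ c : F, c • u ∈ B := by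
    intro c
    have hc : polar R u ((-c) • s) = 0 := by rw [polar_smul_right, polar_comm R u s, h2, smul_zero]
    have h4 := hB _ (siegel_mem_E hu hc) w hw
    rw [siegel_apply, polar_comm R u w, h1, polar_smul_left, polar_comm R s w, hs] at h4
    have h5 := B.sub_mem h4 hw
    have e : w + (0 : F) • (-c) • s - ((-c) • (1 : F)) • u - (R ((-c) • s) * 0) • u - w = c • u := by
      simp only [smul_eq_mul]
      module
    rwa [e] at h5
  rw [eq_top_iff]
  intro v _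
  obtain ⟨a, b, hab⟩ := hG.exists_hyp
  refine sing_induction hab (P := fun v => v ∈ B) (fun a c ha hc => B.add_mem ha hc) ?_ v
  intro t ht
  by_cases ht0 : t = 0
  · rw [ht0]; exact B.zero_mem
  · obtain ⟨g, hg, hgu⟩ := hG.trans_sing hu ht hu0 ht0
    have h4 := h3 1
    rw [one_smul] at h4
    have := hB g hg u h4
    rwa [hgu] at this

theorem irr [Finite F] (hQ : Nondeg Q) (h : Hyp Q x x') (hG : Good (res Q (hperp Q x x'))) (A : Subgroup ↥(E Q))
    (hA : A ≤ RG h.left) (hAL : ∀ l ∈ LG hQ h, ∀ a ∈ A, l * a * l⁻¹ ∈ A) (hne : A ≠ ⊥) : RG h.left ≤ A := by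
  let B : AddSubgroup (hperp Q x x') :=
    { carrier := {w | sW h w ∈ A}
      zero_mem' := by
        show sW h 0 ∈ A
        rw [sW_zero]; exact one_mem _
      add_mem' := by
        intro u w hu hw
        show sW h (u + w) ∈ A
        rw [sW_add]; exact mul_mem hu hw
      neg_mem' := by
        intro w hw
        show sW h (-w) ∈ A
        have h1 : sW h (-w) * sW h w = 1 := by rw [← sW_add, neg_add_cancel, sW_zero]
        rw [eq_inv_of_mul_eq_one_left h1]
        exact inv_mem hw }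
  have hBt : B = ⊤ := by
    apply irr_add hG
    · intro g hg w hw
      show sW h (g w) ∈ A
      have := conj_sW hQ h ⟨g, hg⟩ w
      rw [← this]
      exact hAL _ ⟨_, rfl⟩ _ hw
    · obtain ⟨a, ha1⟩ := Subgroup.ne_bot_iff_exists_ne_one.1 hne
      obtain ⟨w, hw⟩ := (mem_RG_iff h).1 (hA a.2)
      refine ⟨w, ?_, ?_⟩
      · show sW h w ∈ A
        rw [hw]; exact a.2
      · rintro rfl
        apply ha1
        apply Subtype.ext
        rw [← hw, sW_zero]
        rfl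
  intro r hr
  obtain ⟨w, rfl⟩ := (mem_RG_iff h).1 hr
  have : w ∈ B := by rw [hBt]; trivial
  exact this

/-- the index of the stabilizer -/
theorem idx [Finite F] [FiniteDimensional F V] {p : ℕ} (hp : p.Prime) [CharP F p] (hG : Good Q) (h : Hyp Q x x') :
    ¬ p ∣ (PL Q x).index := by
  have hfV : Finite V := Module.finite_of_finite F
  have hfE : Finite (V ≃ₗ[F] V) := Finite.of_injective (fun g : V ≃ₗ[F] V => (g : V → V)) DFunLike.coe_injective
  have h1 : MulAction.stabilizer ↥(E Q) x ≤ PL Q x := by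
    intro g hg
    refine ⟨1, one_ne_zero, ?_⟩
    rw [one_smul]
    exact hg
  have h2 : (MulAction.stabilizer ↥(E Q) x).index = nz Q - 1 := by
    rw [MulAction.index_stabilizer, ← card_sub_one, ← Nat.card_coe_set_eq]
    apply Nat.card_congr
    refine Equiv.subtypeEquivRight fun v => ?_
    constructor
    · rintro ⟨g, rfl⟩
      refine ⟨fun hc => h.left_ne ?_, ?_⟩
      · exact (LinearEquiv.map_eq_zero_iff (g : V ≃ₗ[F] V)).1 hc
      · exact (mem_O.1 (E_le_O g.2) x).trans h.left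
    · rintro ⟨hv0, hv⟩
      obtain ⟨g, hg, hgx⟩ := hG.trans_sing h.left hv h.left_ne hv0
      exact ⟨⟨g, hg⟩, hgx⟩
  intro h3
  have h4 : p ∣ nz Q - 1 := by
    rw [← h2]
    exact h3.trans (Subgroup.index_dvd_of_le h1)
  have hpF : p ∣ Nat.card F := by
    have := Fintype.ofFinite F
    rw [Nat.card_eq_fintype_card]
    obtain ⟨n, -, hn⟩ := FiniteField.card F p
    rw [hn]
    exact dvd_pow_self p n.ne_zero
  have h5 : p ∣ nz Q := by
    rw [card_zeros h]
    refine dvd_add (Dvd.dvd.mul_right (dvd_pow hpF ?_) _) (Dvd.dvd.mul_left hpF _)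
    have := hG.dim
    omega
  have h6 : 0 < nz Q := by
    have : Nonempty {v : V // Q v = 0} := ⟨⟨0, by simp⟩⟩
    exact Nat.card_pos
  have h7 : p ∣ 1 := by
    have := (Nat.dvd_sub h5 h4)
    rwa [show nz Q - (nz Q - 1) = 1 by omega] at this
  exact hp.one_lt.ne' (Nat.dvd_one.1 h7)

/-- **the local subgroup** -/
theorem loc [Finite F] [FiniteDimensional F V] {p : ℕ} (hp : p.Prime) [CharP F p] (hQ : Nondeg Q)
    (hd : 7 ≤ Module.finrank F V) (h : Hyp Q x x') : PIndex.Loc p (PL Q x) (RG h.left) (LG hQ h) where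
  idx := idx hp (good_of_finite hQ (by omega)) h
  RP := RG_le_PL h.left
  LP := LG_le_PL hQ h
  PR m hm r hr := PR h.left hm hr
  PL m hm l hl := PLL hQ h hm hl
  grp := RG_pgroup p h.left
  comm r hr s hs := RG_comm h.left hr hs
  irr A hA hAL hne := by
    have hfr := finrank_hperp h
    exact irr hQ h (good_of_finite (nondeg_hperp hQ h) (by omega)) A hA hAL hne
  gen K hK := gen (good_of_finite hQ (by omega)) h.left h.left_ne K hK

end Cfsg.Agent.H125.OrthLoc
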