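import Cfsg.Agent.H125.OrthGood
import Cfsg.Agent.H955.QMinus
import Cfsg.Agent.GenOrth.Normal

/-!
# The rows `POmega` of S3608 in the own characteristic (helper125)

`rows` : `POmega F (quadFormOdd n F)`, `n ≥ 3`, `POmega F (quadFormPlus n F)`, `n ≥ 4`,
`POmega F (quadFormMinus n F a b)`, `n ≥ 3`, have no proper subgroup of `p`-power index, `p` the characteristic of `F`,
from the groups of dimension 5 and 6, `Ω₇(3)` and `Ω⁺₈(2)`, `PΩ⁺₈(3)`.
-/

set_option autoImplicit false
set_option linter.unusedSectionVars false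
set_option linter.unusedVariables false

namespace Cfsg.Agent.H125.OrthLoc

open QuadraticMap Cfsg.Agent.LieClassical.OrthCore Cfsg.Agent.LieClassical.OrthTrans
open Cfsg.Agent.LieClassical.OrthFinite Cfsg.Agent.H955 Cfsg.Agent.GenOrth Cfsg.Agent.H353.TwoOrth
open Cfsg.Agent.LieClassical.QuadForms

universe u v w

section sim

variable {F V V' : Type*} [Field F] [AddCommGroup V] [Module F V] [AddCommGroup V'] [Module F V']

/-- conjugation by a linear equivalence -/
def cjE (j : V' ≃ₗ[F] V) : (V' ≃ₗ[F] V') ≃* (V ≃ₗ[F] V) where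
  toFun g := (j.symm.trans g).trans j
  invFun g := (j.trans g).trans j.symm
  left_inv g := by
    ext v
    change j.symm (j (g (j.symm (j v)))) = g v
    rw [j.symm_apply_apply, j.symm_apply_apply]
  right_inv g := by
    ext v
    change j (j.symm (g (j (j.symm v)))) = g v
    rw [j.apply_symm_apply, j.apply_symm_apply]
  map_mul' g h := by
    ext v
    change j (g (h (j.symm v))) = j (g (j.symm (j (h (j.symm v)))))
    rw [j.symm_apply_apply]

theorem map_O {Q : QuadraticForm F V} {Q' : QuadraticForm F V'} {c : F} (hc : c ≠ 0) (j : V' ≃ₗ[F] V)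
    (hj : ∀ x, Q (j x) = c * Q' x) : (O Q').map (cjE j).toMonoidHom = O Q := by
  ext g
  constructor
  · rintro ⟨h, hh, rfl⟩ v
    change Q (j (h (j.symm v))) = Q v
    rw [hj, hh, ← hj, j.apply_symm_apply]
  · intro hg
    refine ⟨(cjE j).symm g, ?_, (cjE j).apply_symm_apply g⟩
    intro v
    change Q' (j.symm (g (j v))) = Q' v
    have h1 : c * Q' (j.symm (g (j v))) = c * Q' v := by
      rw [← hj, ← hj, j.apply_symm_apply, hg]
    exact mul_left_cancel₀ hc h1

/-- similar forms have isomorphic groups -/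
theorem equiv_of_sim {Q : QuadraticForm F V} {Q' : QuadraticForm F V'} (hG : Good Q) (hG' : Good Q') {c : F}
    (hc : c ≠ 0) (j : V' ≃ₗ[F] V) (hj : ∀ x, Q (j x) = c * Q' x) : Nonempty (↥(E Q') ≃* ↥(E Q)) := by
  have h1 : (E Q').map (cjE j).toMonoidHom = E Q := by
    rw [← hG.commutator_eq_E, ← hG'.commutator_eq_E, Subgroup.map_commutator, map_O hc j hj]
  exact ⟨((E Q').equivMapOfInjective (cjE j).toMonoidHom (cjE j).injective).trans (MulEquiv.subgroupCongr h1)⟩

theorem good_of_sim {p : ℕ} {Q : QuadraticForm F V} {Q' : QuadraticForm F V'} (hG : Good Q) (hG' : Good Q') {c : F}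
    (hc : c ≠ 0) (j : V' ≃ₗ[F] V) (hj : ∀ x, Q (j x) = c * Q' x) (h : Cfsg.Agent.H408.Core.Good p ↥(E Q')) :
    Cfsg.Agent.H408.Core.Good p ↥(E Q) := by
  obtain ⟨e⟩ := equiv_of_sim hG hG' hc j hj
  exact h.of_equiv e

end sim

section transfer

variable {ι : Type} [Fintype ι] [DecidableEq ι] {F : Type u} [Field F]

/-- `POmega F Q` as `E Q / Z(E Q)` -/
noncomputable def pomEquiv {Q : QuadraticForm F (ι → F)} (hG : Good Q) :
    Cfsg.POmega F ⇑Q ≃* ↥(E Q) ⧸ Subgroup.center ↥(E Q) :=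
  quotientCenterCongr ((omegaEquiv Q).trans (MulEquiv.subgroupCongr hG.commutator_eq_E))

theorem good_pom_of_E {p : ℕ} {Q : QuadraticForm F (ι → F)} (hG : Good Q)
    (h : Cfsg.Agent.H408.Core.Good p ↥(E Q)) : Cfsg.Agent.H408.Core.Good p (Cfsg.POmega F ⇑Q) :=
  (h.of_surjective (QuotientGroup.mk' (Subgroup.center ↥(E Q))) (QuotientGroup.mk'_surjective _)).of_equiv
    (pomEquiv hG).symm

theorem good_E_of_pom [Finite F] {p : ℕ} (hp : p.Prime) {Q : QuadraticForm F (ι → F)} (hG : Good Q)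
    (h : Cfsg.Agent.H408.Core.Good p (Cfsg.POmega F ⇑Q)) : Cfsg.Agent.H408.Core.Good p ↥(E Q) := by
  have hfE : Finite ((ι → F) ≃ₗ[F] (ι → F)) :=
    Finite.of_injective (fun g : (ι → F) ≃ₗ[F] (ι → F) => (g : (ι → F) → (ι → F))) DFunLike.coe_injective
  refine Cfsg.Agent.H408.Core.Good.of_center hp (QuotientGroup.mk' (Subgroup.center ↥(E Q)))
    (QuotientGroup.mk'_surjective _) ?_ ?_ (h.of_equiv (pomEquiv hG))
  · intro z hz g
    have h1 : z ∈ Subgroup.center ↥(E Q) := (QuotientGroup.eq_one_iff z).1 hz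
    exact (Subgroup.mem_center_iff.1 h1 g).symm
  · intro L hL
    have h3 : ⁅(⊤ : Subgroup ↥(E Q)), (⊤ : Subgroup ↥(E Q))⁆ = ⊤ := by
      apply Subgroup.map_injective (E Q).subtype_injective
      rw [Subgroup.map_commutator, ← MonoidHom.range_eq_map, Subgroup.range_subtype]
      exact hG.E_perfect
    rw [eq_top_iff, ← h3, Subgroup.commutator_le]
    intro a _ b _
    exact hL a b

end transfer

theorem finrank_odd (F : Type u) [Field F] (m : ℕ) :
    Module.finrank F (Unit ⊕ (Fin m ⊕ Fin m) → F) = 2 * m + 1 := by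
  rw [Module.finrank_fintype_fun_eq_card]
  simp
  omega

/-- the base cases, for a field `F` of characteristic `p` -/
structure RowBase (p : ℕ) (F : Type u) [Field F] : Prop where
  five : 4 ≤ Nat.card F → (2 : F) ≠ 0 → Cfsg.Agent.H408.Core.Good p (Cfsg.POmega F (Cfsg.quadFormOdd 2 F))
  sixP : 4 ≤ Nat.card F → Cfsg.Agent.H408.Core.Good p (Cfsg.POmega F (Cfsg.quadFormPlus 3 F))
  sixM : ∀ a b : F, (∀ z₁ z₂ : F, z₁ ^ 2 + a * z₁ * z₂ + b * z₂ ^ 2 = 0 → z₁ = 0 ∧ z₂ = 0) →
    Cfsg.Agent.H408.Core.Good p (Cfsg.POmega F (Cfsg.quadFormMinus 2 F a b))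
  seven : Nat.card F = 3 → Cfsg.Agent.H408.Core.Good p (Cfsg.POmega F (Cfsg.quadFormOdd 3 F))
  eightP : Nat.card F ≤ 3 → Cfsg.Agent.H408.Core.Good p (Cfsg.POmega F (Cfsg.quadFormPlus 4 F))

theorem good_plusF (F : Type u) [Field F] [Finite F] {m : ℕ} (hm : 3 ≤ m) : Good (plusForm m F) :=
  good_of_finite (nondeg_plus m) (by rw [finrank_plus]; omega)

theorem good_minusF (F : Type u) [Field F] [Finite F] {m : ℕ} (hm : 2 ≤ m) {a b : F}
    (hab : ∀ z₁ z₂ : F, z₁ ^ 2 + a * z₁ * z₂ + b * z₂ ^ 2 = 0 → z₁ = 0 ∧ z₂ = 0) : Good (minusForm m F a b) :=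
  good_of_finite (nondeg_minus m hab) (by rw [finrank_minus]; omega)

theorem nondeg_odd (F : Type u) [Field F] {m : ℕ} (h2 : (2 : F) ≠ 0) : Nondeg (oddForm m F) := by
  intro x hx
  refine oddForm_nondeg m x ?_ hx
  have h1 := hx x
  rw [polar_self'] at h1
  exact (mul_eq_zero.1 h1).resolve_left h2

theorem good_oddF (F : Type u) [Field F] [Finite F] {m : ℕ} (hm : 2 ≤ m) (h2 : (2 : F) ≠ 0) : Good (oddForm m F) :=
  good_of_finite (nondeg_odd F h2) (by rw [finrank_odd]; omega)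

/-- a nondegenerate form in odd dimension: the characteristic is odd and the form is similar to `oddForm` -/
theorem exists_sim_odd {F : Type u} [Field F] [Finite F] {V : Type v} [AddCommGroup V] [Module F V]
    [FiniteDimensional F V] {Q : QuadraticForm F V} (hQ : Nondeg Q) {m : ℕ} (hd : Module.finrank F V = 2 * m + 1) :
    (2 : F) ≠ 0 ∧ ∃ c : F, c ≠ 0 ∧ ∃ j : (Unit ⊕ (Fin m ⊕ Fin m) → F) ≃ₗ[F] V, ∀ x, Q (j x) = c * oddForm m F x := by
  rcases normal_form (F := F) _ hQ hd with ⟨k, hk, c, hc, j, hj⟩ | ⟨k, hk, c, hc, j, hj⟩ |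
    ⟨k, hk, a, b, hab, c, hc, j, hj⟩
  · obtain rfl : k = m := by omega
    refine ⟨?_, c, hc, j, fun x => by rw [hj, coe_oddForm]⟩
    intro h2
    -- the vector of the radical
    have h1 : j (Pi.single (Sum.inl ()) 1) = 0 := by
      apply hQ
      intro y
      obtain ⟨y, rfl⟩ := j.surjective y
      have h3 : ∀ x y, polar Q (j x) (j y) = c * polar (oddForm k F) x y := by
        intro x y
        rw [polar, ← map_add, hj, hj, hj, polar, coe_oddForm]
        ring
      rw [h3, polar_oddForm, h2, zero_mul, zero_add]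
      have h4 : (fun i : Fin k ⊕ Fin k => (Pi.single (Sum.inl ()) 1 : Unit ⊕ (Fin k ⊕ Fin k) → F) (Sum.inr i)) = 0 := by
        funext i
        simp
      rw [h4, polar_zero_left, mul_zero]
    have h4 : (Pi.single (Sum.inl ()) 1 : Unit ⊕ (Fin k ⊕ Fin k) → F) = 0 := j.injective (by rw [h1, map_zero])
    have h5 := congrFun h4 (Sum.inl ())
    rw [Pi.single_eq_same] at h5
    exact one_ne_zero h5
  · omega
  · omega

/-- the base cases for all spaces -/
theorem RowBase.base {F : Type u} [Field F] [Finite F] {p : ℕ} (hp : p.Prime) [CharP F p] (B : RowBase p F)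
    {V : Type v} [AddCommGroup V] [Module F V] [FiniteDimensional F V] (Q : QuadraticForm F V) (hQ : Nondeg Q)
    (hb : BaseCase (Nat.card F) (Module.finrank F V) (IsPlus Q)) : Cfsg.Agent.H408.Core.Good p ↥(E Q) := by
  -- even dimension, plus type
  have plus : ∀ m, 3 ≤ m → Module.finrank F V = 2 * m → IsPlus Q →
      Cfsg.Agent.H408.Core.Good p (Cfsg.POmega F (Cfsg.quadFormPlus m F)) → Cfsg.Agent.H408.Core.Good p ↥(E Q) := by
    intro m hm hd hpl h
    obtain ⟨e, he⟩ := exists_plus_equiv m Q hQ hd hpl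
    rw [← coe_plusForm] at h
    refine good_of_sim (good_of_finite hQ (by omega)) (good_plusF F hm) one_ne_zero e.symm (fun x => ?_)
      (good_E_of_pom hp (good_plusF F hm) h)
    rw [← he, LinearEquiv.apply_symm_apply, one_mul]
  have minus : ∀ m, 2 ≤ m → Module.finrank F V = 2 * (m + 1) → ¬ IsPlus Q →
      (∀ a b : F, (∀ z₁ z₂ : F, z₁ ^ 2 + a * z₁ * z₂ + b * z₂ ^ 2 = 0 → z₁ = 0 ∧ z₂ = 0) →
        Cfsg.Agent.H408.Core.Good p (Cfsg.POmega F (Cfsg.quadFormMinus m F a b))) →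
      Cfsg.Agent.H408.Core.Good p ↥(E Q) := by
    intro m hm hd hpl h
    obtain ⟨a, b, hab⟩ := exists_aniso_coeff F
    obtain ⟨e, he⟩ := exists_minus_equiv hab m Q hQ hd hpl
    have h1 := h a b hab
    rw [← coe_minusForm] at h1
    refine good_of_sim (good_of_finite hQ (by omega)) (good_minusF F hm hab) one_ne_zero e.symm (fun x => ?_)
      (good_E_of_pom hp (good_minusF F hm hab) h1)
    rw [← he, LinearEquiv.apply_symm_apply, one_mul]
  have odd : ∀ m, 2 ≤ m → Module.finrank F V = 2 * m + 1 →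
      ((2 : F) ≠ 0 → Cfsg.Agent.H408.Core.Good p (Cfsg.POmega F (Cfsg.quadFormOdd m F))) →
      Cfsg.Agent.H408.Core.Good p ↥(E Q) := by
    intro m hm hd h
    obtain ⟨h2, c, hc, j, hj⟩ := exists_sim_odd hQ hd
    have h1 := h h2
    rw [← coe_oddForm] at h1
    exact good_of_sim (good_of_finite hQ (by omega)) (good_oddF F hm h2) hc j hj
      (good_E_of_pom hp (good_oddF F hm h2) h1)
  rcases hb with ⟨hq, h5 | h6⟩ | ⟨hq, h6, hpl⟩ | ⟨hq, h7⟩ | ⟨hq, h8, hpl⟩
  · exact odd 2 le_rfl h5 fun h2 => B.five hq h2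
  · by_cases hpl : IsPlus Q
    · exact plus 3 le_rfl h6 hpl (B.sixP hq)
    · exact minus 2 le_rfl h6 hpl B.sixM
  · exact minus 2 le_rfl h6 hpl B.sixM
  · refine odd 3 (by omega) h7 fun h2 => B.seven ?_
    have h1 := Finite.one_lt_card (α := F)
    rcases (show Nat.card F = 2 ∨ Nat.card F = 3 by omega) with h3 | h3
    · exfalso
      apply h2
      have hc2 : CharP F 2 := charP_of_card Nat.prime_two h3
      exact two_zero
    · exact h3
  · exact plus 4 (by omega) h8 hpl (B.eightP hq)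

/-- all spaces of dimension at least 7 -/
theorem RowBase.good {F : Type u} [Field F] [Finite F] {p : ℕ} (hp : p.Prime) [CharP F p] (B : RowBase p F)
    {V : Type v} [AddCommGroup V] [Module F V] [FiniteDimensional F V] (Q : QuadraticForm F V) (hQ : Nondeg Q)
    (hd : 7 ≤ Module.finrank F V) : Cfsg.Agent.H408.Core.Good p ↥(E Q) :=
  good_E hp (fun R hR hb => B.base hp R hR hb) _ Q hQ rfl hd

/-- **the row `POmega`, odd dimension** -/
theorem RowBase.odd {F : Type u} [Field F] [Finite F] {p : ℕ} (hp : p.Prime) [CharP F p] (B : RowBase p F)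
    (h2 : (2 : F) ≠ 0) {n : ℕ} (hn : 3 ≤ n) : Cfsg.Agent.H408.Core.Good p (Cfsg.POmega F (Cfsg.quadFormOdd n F)) := by
  rw [← coe_oddForm]
  exact good_pom_of_E (good_oddF F (by omega) h2) (B.good hp _ (nondeg_odd F h2) (by rw [finrank_odd]; omega))

/-- **the row `POmega`, plus type** -/
theorem RowBase.plus {F : Type u} [Field F] [Finite F] {p : ℕ} (hp : p.Prime) [CharP F p] (B : RowBase p F)
    {n : ℕ} (hn : 4 ≤ n) : Cfsg.Agent.H408.Core.Good p (Cfsg.POmega F (Cfsg.quadFormPlus n F)) := by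
  rw [← coe_plusForm]
  exact good_pom_of_E (good_plusF F (by omega)) (B.good hp _ (nondeg_plus n) (by rw [finrank_plus]; omega))

/-- **the row `POmega`, minus type** -/
theorem RowBase.minus {F : Type u} [Field F] [Finite F] {p : ℕ} (hp : p.Prime) [CharP F p] (B : RowBase p F)
    {n : ℕ} (hn : 3 ≤ n) {a b : F} (hab : ∀ z₁ z₂ : F, z₁ ^ 2 + a * z₁ * z₂ + b * z₂ ^ 2 = 0 → z₁ = 0 ∧ z₂ = 0) :
    Cfsg.Agent.H408.Core.Good p (Cfsg.POmega F (Cfsg.quadFormMinus n F a b)) := by
  rw [← coe_minusForm]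
  exact good_pom_of_E (good_minusF F (by omega) hab) (B.good hp _ (nondeg_minus n hab) (by rw [finrank_minus]; omega))

end Cfsg.Agent.H125.OrthLoc
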