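import Cfsg.Agent.H408.LemmaK

/-!
# Subgroups of `p`-power index and a `p`-local subgroup with abelian irreducible radical (helper125)

`P ≤ G` of index prime to `p`, `R` an abelian normal `p`-subgroup of `P`, `R L` normal in `P`, `L` without proper
subgroups of `p`-power index and irreducible on `R`. If `H` has `p`-power index then `R ≤ H` (so `H = G`, if the
conjugates of `R` generate `G`) or `H ∩ R = 1`. In the second case a `p'`-subgroup `Y` is used: after conjugation `Y ≤ H`,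
and `z ∈ L` commuting with `Y` is in `H` if `C_R(Y) = 1`; also commutators of elements of `C_L(Y)` which centralise
`C_R(Y)` are in `H`. If such an element lies in a conjugate of `R`, we have a contradiction.
-/

set_option autoImplicit false

namespace Cfsg.Agent.H125.PIndex

open Subgroup
open scoped Pointwise
open Cfsg.Agent.H408.Core Cfsg.Agent.H408.LemmaK

variable {G : Type*} [Group G] [Finite G] {p k : ℕ}

/-- the data of the local subgroup -/
structure Loc (p : ℕ) (P R L : Subgroup G) : Prop where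
  idx : ¬ p ∣ P.index
  RP : R ≤ P
  LP : L ≤ P
  PR : ∀ m ∈ P, ∀ r ∈ R, m * r * m⁻¹ ∈ R
  PL : ∀ m ∈ P, ∀ l ∈ L, m * l * m⁻¹ ∈ R ⊔ L
  grp : IsPGroup p R
  comm : ∀ r ∈ R, ∀ s ∈ R, r * s = s * r
  irr : ∀ A : Subgroup G, A ≤ R → (∀ l ∈ L, ∀ a ∈ A, l * a * l⁻¹ ∈ A) → A ≠ ⊥ → R ≤ A
  gen : ∀ K : Subgroup G, (∀ g : G, ∀ r ∈ R, g * r * g⁻¹ ∈ K) → K = ⊤

namespace Loc

variable {P R L H Y : Subgroup G}

theorem mem_sup (h : Loc p P R L) {x : G} (hx : x ∈ R ⊔ L) : ∃ r ∈ R, ∃ l ∈ L, x = r * l := by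
  have hLn : L ≤ normalizer (R : Set G) := by
    intro l hl
    rw [mem_normalizer_iff]
    intro r
    refine ⟨h.PR l (h.LP hl) r, fun hr => ?_⟩
    have := h.PR l⁻¹ (inv_mem (h.LP hl)) _ hr
    rwa [show l⁻¹ * (l * r * l⁻¹) * l⁻¹⁻¹ = r by group] at this
  have h1 : x ∈ ((R ⊔ L : Subgroup G) : Set G) := hx
  rw [Subgroup.coe_mul_of_right_le_normalizer_left R L hLn] at h1
  obtain ⟨r, hr, l, hl, rfl⟩ := Set.mem_mul.1 h1
  exact ⟨r, hr, l, hl, rfl⟩

theorem PN (h : Loc p P R L) {m x : G} (hm : m ∈ P) (hx : x ∈ R ⊔ L) : m * x * m⁻¹ ∈ R ⊔ L := by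
  obtain ⟨r, hr, l, hl, rfl⟩ := h.mem_sup hx
  have e : m * (r * l) * m⁻¹ = (m * r * m⁻¹) * (m * l * m⁻¹) := by group
  rw [e]
  exact mul_mem (mem_sup_left (h.PR m hm r hr)) (h.PL m hm l hl)

theorem coprime (h : Loc p P R L) (hp : p.Prime) (hH : H.index = p ^ k) : H.index.Coprime P.index := by
  rw [hH]
  exact Nat.Coprime.pow_left _ ((Nat.Prime.coprime_iff_not_dvd hp).2 h.idx)

/-- `H` covers `L` modulo `R` -/
theorem cover (h : Loc p P R L) (hp : p.Prime) (hgood : Good p L) (hH : H.index = p ^ k) :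
    ∀ x ∈ L, ∃ r ∈ R, x * r ∈ H := by
  let N : Subgroup G := R ⊔ L
  have hRN : R ≤ N := le_sup_left
  have hLN : L ≤ N := le_sup_right
  have hNP : N ≤ P := sup_le h.RP h.LP
  have h1 : H.relIndex N ∣ p ^ k := by
    rw [← hH, ← relIndex_eq (h.coprime hp hH)]
    apply relIndex_dvd_of_le_normalizer H hNP
    intro m hm
    rw [mem_normalizer_iff]
    intro x
    refine ⟨fun hx => h.PN hm hx, fun hx => ?_⟩
    have := h.PN (inv_mem hm) hx
    rwa [show m⁻¹ * (m * x * m⁻¹) * m⁻¹⁻¹ = x by group] at this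
  have hn : (R.subgroupOf N).Normal := by
    refine ⟨fun r hr m => ?_⟩
    rw [mem_subgroupOf] at hr ⊢
    exact h.PR m (hNP m.2) r hr
  let π : N →* N ⧸ R.subgroupOf N := QuotientGroup.mk' _
  let f : L →* N ⧸ R.subgroupOf N := π.comp (Subgroup.inclusion hLN)
  have hf : Function.Surjective f := by
    intro z
    obtain ⟨m, rfl⟩ := QuotientGroup.mk'_surjective _ z
    obtain ⟨r, hr, l, hl, e⟩ := h.mem_sup m.2
    refine ⟨⟨l, hl⟩, ?_⟩
    change (QuotientGroup.mk (⟨l, hLN hl⟩ : N) : N ⧸ R.subgroupOf N) = QuotientGroup.mk m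
    rw [QuotientGroup.eq, mem_subgroupOf]
    change l⁻¹ * (m : G) ∈ R
    rw [e]
    have := h.PR l⁻¹ (inv_mem (h.LP hl)) r hr
    rwa [show l⁻¹ * r * l⁻¹⁻¹ = l⁻¹ * (r * l) by group] at this
  have h2 : ((H.subgroupOf N).map π).index ∣ p ^ k :=
    (Subgroup.index_map_dvd _ (QuotientGroup.mk'_surjective _)).trans h1
  obtain ⟨j, -, hj⟩ := (Nat.dvd_prime_pow hp).1 h2
  have h3 : (((H.subgroupOf N).map π).comap f).index = p ^ j := by rw [index_comap_of_surjective _ hf, hj]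
  have h4 := hgood _ j h3
  intro x hx
  have h5 : (⟨x, hx⟩ : L) ∈ ((H.subgroupOf N).map π).comap f := by rw [h4]; trivial
  obtain ⟨y, hy, hyx⟩ := h5
  have h6 : (QuotientGroup.mk (⟨x, hLN hx⟩ : N) : N ⧸ R.subgroupOf N) = QuotientGroup.mk y := hyx.symm
  rw [QuotientGroup.eq, mem_subgroupOf] at h6
  have h7 : x⁻¹ * (y : G) ∈ R := h6
  exact ⟨_, h7, by rw [mul_inv_cancel_left]; exact hy⟩

theorem dichotomy (h : Loc p P R L) (hp : p.Prime) (hgood : Good p L) (hH : H.index = p ^ k) (hne : H ≠ ⊤) :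
    H ⊓ R = ⊥ := by
  by_contra hA
  apply hne
  have hRH : R ≤ H := by
    refine le_trans (h.irr (H ⊓ R) inf_le_right ?_ hA) inf_le_left
    intro l hl a ha
    obtain ⟨r, hr, hlr⟩ := h.cover hp hgood hH l hl
    refine Subgroup.mem_inf.2 ⟨?_, h.PR l (h.LP hl) a ha.2⟩
    have e : l * a * l⁻¹ = (l * r) * a * (l * r)⁻¹ := by
      have := h.comm r hr a ha.2
      calc l * a * l⁻¹ = l * (a * r) * r⁻¹ * l⁻¹ := by group
        _ = l * (r * a) * r⁻¹ * l⁻¹ := by rw [this]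
        _ = _ := by group
    rw [e]
    exact mul_mem (mul_mem hlr ha.1) (inv_mem hlr)
  refine h.gen H fun g r hr => ?_
  obtain ⟨x, hx, m, hm, rfl⟩ := exists_mul (h.coprime hp hH) g
  have e : x * m * r * (x * m)⁻¹ = x * (m * r * m⁻¹) * x⁻¹ := by group
  rw [e]
  exact mul_mem (mul_mem hx (hRH (h.PR m hm r hr))) (inv_mem hx)

/-- `H` meets no conjugate of `R` -/
theorem conj_inf (h : Loc p P R L) (hp : p.Prime) (hgood : Good p L) (hH : H.index = p ^ k) (hne : H ≠ ⊤)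
    {g r : G} (hr : r ∈ R) (hg : g * r * g⁻¹ ∈ H) : r = 1 := by
  obtain ⟨x, hx, m, hm, rfl⟩ := exists_mul (h.coprime hp hH) g
  have h1 : m * r * m⁻¹ ∈ H ⊓ R := by
    refine Subgroup.mem_inf.2 ⟨?_, h.PR m hm r hr⟩
    have := mul_mem (mul_mem (inv_mem hx) hg) hx
    rwa [show x⁻¹ * (x * m * r * (x * m)⁻¹) * x = m * r * m⁻¹ by group] at this
  rw [h.dichotomy hp hgood hH hne, mem_bot] at h1
  have : r = m⁻¹ * (m * r * m⁻¹) * m := by group
  rw [this, h1]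
  group

/-- a conjugate of `Y` is in `H` -/
theorem exists_conj (h : Loc p P R L) (hp : p.Prime) (hgood : Good p L) (hH : H.index = p ^ k)
    (hYp : ¬ p ∣ Nat.card Y) (hY : Y ≤ L ∨ (Y ≤ P ∧ ∀ m ∈ P, ∀ y ∈ Y, m * y * m⁻¹ ∈ R ⊔ Y)) :
    ∃ g ∈ R, ∀ y ∈ Y, g * y * g⁻¹ ∈ H := by
  have : Fact p.Prime := ⟨hp⟩
  have hYP : Y ≤ P := by
    rcases hY with h1 | ⟨h1, -⟩
    · exact h1.trans h.LP
    · exact h1
  have hPn : P ≤ normalizer (R : Set G) := by
    intro m hm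
    rw [mem_normalizer_iff]
    intro r
    refine ⟨h.PR m hm r, fun hr => ?_⟩
    have := h.PR m⁻¹ (inv_mem hm) _ hr
    rwa [show m⁻¹ * (m * r * m⁻¹) * m⁻¹⁻¹ = r by group] at this
  have hYn : Y ≤ normalizer (R : Set G) := hYP.trans hPn
  rcases hY with h1 | ⟨h1, h2⟩
  · have h3 : H.relIndex (R ⊔ Y) = H.relIndex R := by
      apply relIndex_eq_of_mul le_sup_left
      intro d hd
      have h4 : d ∈ ((R ⊔ Y : Subgroup G) : Set G) := hd
      rw [Subgroup.coe_mul_of_right_le_normalizer_left R Y hYn] at h4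
      obtain ⟨r, hr, y, hy, rfl⟩ := Set.mem_mul.1 h4
      obtain ⟨s, hs, hys⟩ := h.cover hp hgood hH y (h1 hy)
      refine ⟨r * (y * s⁻¹ * y⁻¹), mul_mem hr (h.PR y (hYP hy) _ (inv_mem hs)), y * s, hys, by group⟩
    obtain ⟨a, ha⟩ := h.grp.exists_card_eq
    obtain ⟨j, hj⟩ := exists_pow hp (m := a) (n := H.relIndex R) (by rw [← ha]; exact relIndex_dvd_card H R)
    exact exists_conj_le_of_sup hp h.grp hYn hYp (h3.trans hj)
  · exact exists_conj_le_H hp hH h.idx h.RP hPn h.grp h1 hYp h2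

/-- **the criterion** -/
theorem eq_top (h : Loc p P R L) (hp : p.Prime) (hgood : Good p L) (hH : H.index = p ^ k)
    (hYp : ¬ p ∣ Nat.card Y) (hY : Y ≤ L ∨ (Y ≤ P ∧ ∀ m ∈ P, ∀ y ∈ Y, m * y * m⁻¹ ∈ R ⊔ Y))
    {z g : G} (hz : z ≠ 1) (hzg : g⁻¹ * z * g ∈ R)
    (hzL : (z ∈ L ∧ (∀ y ∈ Y, z * y = y * z) ∧ ∀ r ∈ R, (∀ y ∈ Y, r * y = y * r) → r = 1) ∨
      ∃ D : Subgroup G, D ≤ L ∧ (∀ a ∈ D, ∀ y ∈ Y, a * y = y * a) ∧ z ∈ ⁅D, D⁆ ∧
        ∀ r ∈ R, (∀ y ∈ Y, r * y = y * r) → ∀ a ∈ D, r * a = a * r) : H = ⊤ := by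
  by_contra hne
  obtain ⟨u, hu, huY⟩ := h.exists_conj hp hgood hH hYp hY
  -- elements of `L` commuting with `Y`
  have hYP : Y ≤ P := by
    rcases hY with h1 | ⟨h1, -⟩
    · exact h1.trans h.LP
    · exact h1
  have key : ∀ x ∈ L, (∀ y ∈ Y, x * y = y * x) → ∃ r ∈ R, (∀ y ∈ Y, r * y = y * r) ∧ u * (x * r) * u⁻¹ ∈ H := by
    intro x hx hxy
    obtain ⟨s, hs, hxs⟩ := h.cover hp hgood hH x hx
    -- `u (x r) u⁻¹ = x s`, `r = x⁻¹ u⁻¹ x s u`
    set r := x⁻¹ * u⁻¹ * x * s * u with hr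
    have hrR : r ∈ R := by
      rw [hr]
      refine mul_mem (mul_mem ?_ hs) hu
      have := h.PR x⁻¹ (inv_mem (h.LP hx)) _ (inv_mem hu)
      rwa [inv_inv] at this
    have e1 : u * (x * r) * u⁻¹ = x * s := by rw [hr]; group
    refine ⟨r, hrR, fun y hy => ?_, by rw [e1]; exact hxs⟩
    have h1 : u * y * u⁻¹ ∈ H := huY y hy
    have h2 : u * (x * r) * u⁻¹ ∈ H := by rw [e1]; exact hxs
    have h3 : u * (y * (x * r) * y⁻¹ * (x * r)⁻¹) * u⁻¹ ∈ H := by
      have := mul_mem (mul_mem (mul_mem h1 h2) (inv_mem h1)) (inv_mem h2)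
      rwa [show u * y * u⁻¹ * (u * (x * r) * u⁻¹) * (u * y * u⁻¹)⁻¹ * (u * (x * r) * u⁻¹)⁻¹ =
        u * (y * (x * r) * y⁻¹ * (x * r)⁻¹) * u⁻¹ by group] at this
    have e2 : y * (x * r) * y⁻¹ * (x * r)⁻¹ = x * ((y * r * y⁻¹) * r⁻¹) * x⁻¹ := by
      have := hxy y hy
      calc y * (x * r) * y⁻¹ * (x * r)⁻¹ = (y * x) * r * y⁻¹ * r⁻¹ * x⁻¹ := by group
        _ = (x * y) * r * y⁻¹ * r⁻¹ * x⁻¹ := by rw [this]
        _ = _ := by group
    have h4 : y * (x * r) * y⁻¹ * (x * r)⁻¹ ∈ R := by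
      rw [e2]
      exact h.PR x (h.LP hx) _ (mul_mem (h.PR y (hYP hy) r hrR) (inv_mem hrR))
    have h5 := h.conj_inf hp hgood hH hne h4 h3
    rw [e2] at h5
    have h6 : y * r * y⁻¹ * r⁻¹ = 1 := by
      have : y * r * y⁻¹ * r⁻¹ = x⁻¹ * (x * ((y * r * y⁻¹) * r⁻¹) * x⁻¹) * x := by group
      rw [this, h5]; group
    calc r * y = (y * r * y⁻¹ * r⁻¹)⁻¹ * (y * r) := by group
      _ = y * r := by rw [h6]; group
  have hzH : u * z * u⁻¹ ∈ H := by
    rcases hzL with ⟨hzL, hzy, hR⟩ | ⟨D, hDL, hDy, hzD, hR⟩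
    · obtain ⟨r, hr, hry, hrH⟩ := key z hzL hzy
      rwa [hR r hr hry, mul_one] at hrH
    · have hDH : ⁅D, D⁆ ≤ H.comap (MulAut.conj u).toMonoidHom := by
        rw [Subgroup.commutator_le]
        intro a ha b hb
        obtain ⟨r, hr, hry, hrH⟩ := key a (hDL ha) (hDy a ha)
        obtain ⟨s, hs, hsy, hsH⟩ := key b (hDL hb) (hDy b hb)
        have h1 := mul_mem (mul_mem (mul_mem hrH hsH) (inv_mem hrH)) (inv_mem hsH)
        have e : u * (a * r) * u⁻¹ * (u * (b * s) * u⁻¹) * (u * (a * r) * u⁻¹)⁻¹ * (u * (b * s) * u⁻¹)⁻¹ =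
            u * (a * b * a⁻¹ * b⁻¹) * u⁻¹ := by
          have c1 := hR r hr hry a ha
          have c2 := hR r hr hry b hb
          have c3 := hR s hs hsy a ha
          have c4 := hR s hs hsy b hb
          have c5 := h.comm r hr s hs
          have e1 : (a * r) * (b * s) = (a * b) * (r * s) := by
            calc (a * r) * (b * s) = a * (r * b) * s := by group
              _ = a * (b * r) * s := by rw [c2]
              _ = _ := by group
          have e2 : (b * s) * (a * r) = (b * a) * (r * s) := by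
            calc (b * s) * (a * r) = b * (s * a) * r := by group
              _ = b * (a * s) * r := by rw [c3]
              _ = b * a * (s * r) := by group
              _ = _ := by rw [c5]
          calc u * (a * r) * u⁻¹ * (u * (b * s) * u⁻¹) * (u * (a * r) * u⁻¹)⁻¹ * (u * (b * s) * u⁻¹)⁻¹
              = u * (((a * r) * (b * s)) * ((b * s) * (a * r))⁻¹) * u⁻¹ := by group
            _ = u * (((a * b) * (r * s)) * ((b * a) * (r * s))⁻¹) * u⁻¹ := by rw [e1, e2]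
            _ = _ := by group
        rw [e] at h1
        exact h1
      exact hDH hzD
  -- `z` is in a conjugate of `R`
  have h1 : (u * g) * (g⁻¹ * z * g) * (u * g)⁻¹ ∈ H := by
    rwa [show (u * g) * (g⁻¹ * z * g) * (u * g)⁻¹ = u * z * u⁻¹ by group]
  have h2 := h.conj_inf hp hgood hH hne hzg h1
  apply hz
  have : z = g * (g⁻¹ * z * g) * g⁻¹ := by group
  rw [this, h2]
  group

end Loc

end Cfsg.Agent.H125.PIndex
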