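import Mathlib
import Cfsg.Agent.H125.ReeFull

/-!
# Small Ree groups: element counts, conjugacy of cyclic subgroups of toral order, centralisers
-/

set_option autoImplicit false
set_option linter.unusedSectionVars false

namespace Cfsg.Agent.H125.ReeCounts

open Subgroup
open Cfsg.Agent.LieRecognition
open Cfsg.Agent.LieRecognition.ReeInv
open Cfsg.Agent.LieRecognition.ReeTorusB
open Cfsg.Agent.LieRecognition.ReeClass
open Cfsg.Agent.H125.ReeFull

variable {K : Type*} [Field K] [Fintype K] {G : Type*} [Group G] [Finite G] {m : ℕ}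
  {U : K → K → K → G} {h : Kˣ → G} {n : G}

/-- S2357 -/
theorem counts (D : ReeAbs.Data m U h n) (hm : 1 ≤ m) (hK : Fintype.card K = 3 ^ (2 * m + 1))
    (hG : commutator G = ⊤)
    (hcyc : ∀ x : G, x ≠ 1 → orderOf x ∣ (3 ^ (2 * m + 1)) ^ 2 - 3 ^ (2 * m + 1) + 1 →
      IsCyclic (centralizer {x}) ∧
        Nat.card (normalizer (centralizer {x} : Set G)) ∣ 6 * Nat.card (centralizer {x})) :
    Nat.card {g : G // orderOf g = 2} = (3 ^ (2 * m + 1)) ^ 2 * ((3 ^ (2 * m + 1)) ^ 2 - 3 ^ (2 * m + 1) + 1) ∧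
    Nat.card {g : G // orderOf g = 3} = ((3 ^ (2 * m + 1)) ^ 2 - 1) * ((3 ^ (2 * m + 1)) ^ 3 + 1) ∧
    Nat.card {g : G // orderOf g = 6} = (3 ^ (2 * m + 1)) ^ 2 * (3 ^ (2 * m + 1) - 1) * ((3 ^ (2 * m + 1)) ^ 3 + 1) ∧
    Nat.card {g : G // orderOf g = 9} = (3 ^ (2 * m + 1)) ^ 2 * (3 ^ (2 * m + 1) - 1) * ((3 ^ (2 * m + 1)) ^ 3 + 1) ∧
    (∀ i : ℕ, 2 < i → i ∣ 3 ^ (2 * m + 1) - 1 →
      2 * Nat.card {g : G // orderOf g = i} = Nat.totient i * (3 ^ (2 * m + 1)) ^ 3 * ((3 ^ (2 * m + 1)) ^ 3 + 1)) ∧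
    (∀ i : ℕ, 1 < i → i ∣ (3 ^ (2 * m + 1) + 1) / 4 →
      6 * Nat.card {g : G // orderOf g = i} =
          Nat.totient i * (3 ^ (2 * m + 1)) ^ 3 * (3 ^ (2 * m + 1) - 1) * ((3 ^ (2 * m + 1)) ^ 2 - 3 ^ (2 * m + 1) + 1) ∧
        2 * Nat.card {g : G // orderOf g = 2 * i} =
          Nat.totient i * (3 ^ (2 * m + 1)) ^ 3 * (3 ^ (2 * m + 1) - 1) * ((3 ^ (2 * m + 1)) ^ 2 - 3 ^ (2 * m + 1) + 1)) ∧
    (∀ i : ℕ, 1 < i → i ∣ 3 ^ (2 * m + 1) - 3 ^ (m + 1) + 1 →
      6 * Nat.card {g : G // orderOf g = i} =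
        Nat.totient i * (3 ^ (2 * m + 1)) ^ 3 * ((3 ^ (2 * m + 1)) ^ 2 - 1) * (3 ^ (2 * m + 1) + 3 ^ (m + 1) + 1)) ∧
    (∀ i : ℕ, 1 < i → i ∣ 3 ^ (2 * m + 1) + 3 ^ (m + 1) + 1 →
      6 * Nat.card {g : G // orderOf g = i} =
        Nat.totient i * (3 ^ (2 * m + 1)) ^ 3 * ((3 ^ (2 * m + 1)) ^ 2 - 1) * (3 ^ (2 * m + 1) - 3 ^ (m + 1) + 1)) := by
  have : CharP K 3 := ReeAbs.charP_three hK
  have Dl := ReeSetup.local_of_data D hK
  have ar := ReeClass.arith m
  obtain ⟨f, t₀, S⟩ := ReeSetup.exists_setup D hK hG Dl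
  obtain ⟨A1, A2, z1, z2, k1, k2, n1, n2, x1, x2, hcov⟩ := ReeSetup.exists_tori D hm hK hG hcyc
  have h8 := ar.q8
  have hfac := factor m
  have hcG := Dl.card_G
  have hcube := ar.cube
  have hsq : (3 ^ (2 * m + 1)) ^ 2 - 1 = (3 ^ (2 * m + 1) - 1) * (3 ^ (2 * m + 1) + 1) := by
    have := Nat.sq_sub_sq (3 ^ (2 * m + 1)) 1
    rw [one_pow] at this
    rw [this, mul_comm]
  have e2 := card_two S
  have e6 := card_six S
  rw [ReeClass.card_centralizer S] at e2 e6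
  have hL := card_orderOf_three_PSL (K := K)
  rw [Nat.card_eq_fintype_card (α := K), hK] at hL
  rw [hL] at e6
  have e3 := card_pow_three D hK (k := 1) one_pos
  have e9 := card_pow_three D hK (k := 2) two_pos
  rw [pow_one, card_three_uSub D hK, ReeSplit.card_bSub D, hK] at e3
  rw [show (3 : ℕ) ^ 2 = 9 by norm_num, card_nine_uSub D hK, ReeSplit.card_bSub D, hK] at e9
  have e5 := fun (i : ℕ) (h1 : 2 < i) (h2 : i ∣ 3 ^ (2 * m + 1) - 1) => card_split D hK S h1 h2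
  have e7 := fun (i : ℕ) (h1 : 1 < i) (h2 : i ∣ (3 ^ (2 * m + 1) + 1) / 4) => card_quarter D hK S h1 h2
  have e7' := fun (i : ℕ) (h1 : 1 < i) (h2 : i ∣ (3 ^ (2 * m + 1) + 1) / 4) => card_quarter_two D hK S h1 h2
  have hconj : ∀ (i : ℕ), 1 < i → ∀ (A B : Subgroup G), i ∣ Nat.card A → Nat.Coprime (Nat.card A) (Nat.card B) →
      i ∣ (3 ^ (2 * m + 1)) ^ 2 - 3 ^ (2 * m + 1) + 1 →
      (∀ x : G, x ≠ 1 → orderOf x ∣ (3 ^ (2 * m + 1)) ^ 2 - 3 ^ (2 * m + 1) + 1 →
        ∃ g : G, g * x * g⁻¹ ∈ A ∨ g * x * g⁻¹ ∈ B) →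
      ∀ x : G, orderOf x = i → ∃ g, g⁻¹ * x * g ∈ A := by
    intro i hi A B hA hAB hQ hc x hx
    have hx1 : x ≠ 1 := by
      rintro rfl
      rw [orderOf_one] at hx
      omega
    obtain ⟨g, hg | hg⟩ := hc x hx1 (by rw [hx]; exact hQ)
    · exact ⟨g⁻¹, by rwa [inv_inv]⟩
    · exfalso
      have h1 := orderOf_dvd_natCard (⟨_, hg⟩ : B)
      have h2 := ReeClass.orderOf_conj x g⁻¹
      rw [inv_inv] at h2
      rw [Subgroup.orderOf_mk, h2] at h1
      exact hx1 (eq_one_of_pows (by rw [hx]; exact hA) h1 hAB)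
  have e10 : ∀ i : ℕ, 1 < i → i ∣ 3 ^ (2 * m + 1) - 3 ^ (m + 1) + 1 → Nat.card {g : G // orderOf g = i} *
      (6 * (3 ^ (2 * m + 1) - 3 ^ (m + 1) + 1)) = Nat.card G * Nat.totient i := by
    intro i hi hd
    rw [← n1]
    refine card_torus z1 x1 hi (by rw [k1]; exact hd) ?_
    exact hconj i hi A1 A2 (by rw [k1]; exact hd) (by rw [k1, k2]; exact cop_factor m)
      (hd.trans (dvd_Q m).1) hcov
  have e11 : ∀ i : ℕ, 1 < i → i ∣ 3 ^ (2 * m + 1) + 3 ^ (m + 1) + 1 → Nat.card {g : G // orderOf g = i} *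
      (6 * (3 ^ (2 * m + 1) + 3 ^ (m + 1) + 1)) = Nat.card G * Nat.totient i := by
    intro i hi hd
    rw [← n2]
    refine card_torus z2 x2 hi (by rw [k2]; exact hd) ?_
    exact hconj i hi A2 A1 (by rw [k2]; exact hd) (by rw [k1, k2]; exact (cop_factor m).symm)
      (hd.trans (dvd_Q m).2) (fun x h1 h2 => by
        obtain ⟨g, hg⟩ := hcov x h1 h2
        exact ⟨g, hg.symm⟩)
  clear hconj k1 k2 n1 n2 x1 x2 z1 z2 hcov hL hcyc
  have hrp : 0 < 3 ^ (m + 1) := by positivity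
  have hrq : 3 ^ (m + 1) ≤ 3 ^ (2 * m + 1) := Nat.pow_le_pow_right (by norm_num) (by omega)
  generalize 3 ^ (2 * m + 1) = q at *
  generalize 3 ^ (m + 1) = r at *
  have hq0 : 0 < q := by omega
  have hq1 : 0 < q - 1 := by omega
  generalize q ^ 2 - q + 1 = Q at *
  generalize q - r + 1 = P at *
  have hP : 0 < P := by
    by_contra h0
    have h1 : P = 0 := by omega
    rw [h1, zero_mul] at hfac
    rw [← hfac, mul_zero] at hcube
    omega
  rw [hcube] at hcG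
  rw [hcG] at e2 e6 e3 e9
  simp only [hcG] at e5 e7 e7' e10 e11
  rw [hsq] at e2 e6 e3 ⊢
  rw [hcube]
  generalize q - 1 = s at *
  refine ⟨?_, ?_, ?_, ?_, ?_, ?_, ?_, ?_⟩
  · apply Nat.eq_of_mul_eq_mul_right (m := q * (s * (q + 1))) (by positivity)
    rw [e2]; ring
  · apply Nat.eq_of_mul_eq_mul_right (m := q ^ 3 * s) (by positivity)
    rw [e3]; ring
  · apply Nat.eq_of_mul_eq_mul_right (m := q * (s * (q + 1))) (by positivity)
    rw [e6]; ring
  · apply Nat.eq_of_mul_eq_mul_right (m := q ^ 3 * s) (by positivity)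
    rw [e9]; ring
  · intro i hi hd
    apply Nat.eq_of_mul_eq_mul_right (m := s) (by positivity)
    calc 2 * Nat.card {g : G // orderOf g = i} * s = Nat.card {g : G // orderOf g = i} * (2 * s) := by ring
      _ = _ := by rw [e5 i hi hd]; ring
  · intro i hi hd
    constructor
    · apply Nat.eq_of_mul_eq_mul_right (m := q + 1) (by positivity)
      calc 6 * Nat.card {g : G // orderOf g = i} * (q + 1) =
          Nat.card {g : G // orderOf g = i} * (6 * (q + 1)) := by ring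
        _ = _ := by rw [e7 i hi hd]; ring
    · apply Nat.eq_of_mul_eq_mul_right (m := 3 * (q + 1)) (by positivity)
      calc 2 * Nat.card {g : G // orderOf g = 2 * i} * (3 * (q + 1)) =
          Nat.card {g : G // orderOf g = 2 * i} * (6 * (q + 1)) := by ring
        _ = _ := by rw [e7' i hi hd]; ring
  · intro i hi hd
    apply Nat.eq_of_mul_eq_mul_right (m := P) (by positivity)
    calc 6 * Nat.card {g : G // orderOf g = i} * P =
        Nat.card {g : G // orderOf g = i} * (6 * P) := by ring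
      _ = _ := by rw [e10 i hi hd, ← hfac]; ring
  · intro i hi hd
    apply Nat.eq_of_mul_eq_mul_right (m := q + r + 1) (by positivity)
    calc 6 * Nat.card {g : G // orderOf g = i} * (q + r + 1) =
        Nat.card {g : G // orderOf g = i} * (6 * (q + r + 1)) := by ring
      _ = _ := by rw [e11 i hi hd, ← hfac]; ring

/-- S2358 -/
theorem conj_cyclic (D : ReeAbs.Data m U h n) (hm : 1 ≤ m) (hK : Fintype.card K = 3 ^ (2 * m + 1))
    (hG : commutator G = ⊤)
    (hcyc : ∀ x : G, x ≠ 1 → orderOf x ∣ (3 ^ (2 * m + 1)) ^ 2 - 3 ^ (2 * m + 1) + 1 →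
      IsCyclic (centralizer {x}) ∧
        Nat.card (normalizer (centralizer {x} : Set G)) ∣ 6 * Nat.card (centralizer {x})) (d : ℕ)
    (hd : d ∣ (3 ^ (2 * m + 1) - 1) / 2 ∨ d ∣ (3 ^ (2 * m + 1) + 1) / 4 ∨
      d ∣ 3 ^ (2 * m + 1) - 3 ^ (m + 1) + 1 ∨ d ∣ 3 ^ (2 * m + 1) + 3 ^ (m + 1) + 1)
    (A B : Subgroup G) (hA : IsCyclic A) (hB : IsCyclic B)
    (hAd : Nat.card A = d) (hBd : Nat.card B = d) :
    ∃ g : G, B = A.map (MulAut.conj g).toMonoidHom := by
  have : CharP K 3 := ReeAbs.charP_three hK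
  have Dl := ReeSetup.local_of_data D hK
  have ar := ReeClass.arith m
  obtain ⟨f, t₀, S⟩ := ReeSetup.exists_setup D hK hG Dl
  obtain ⟨A1, A2, z1, z2, k1, k2, n1, n2, x1, x2, hcov⟩ := ReeSetup.exists_tori D hm hK hG hcyc
  have h8 := ar.q8
  by_cases hd1 : d = 1
  · have h1 : A = ⊥ := Subgroup.card_eq_one.1 (hAd.trans hd1)
    have h2 : B = ⊥ := Subgroup.card_eq_one.1 (hBd.trans hd1)
    refine ⟨1, ?_⟩
    rw [h1, h2, Subgroup.map_bot]
  obtain ⟨x, hx⟩ := (Subgroup.isCyclic_iff_exists_zpowers_eq_top A).1 hA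
  obtain ⟨y, hy⟩ := (Subgroup.isCyclic_iff_exists_zpowers_eq_top B).1 hB
  have hxd : orderOf x = d := by rw [← Nat.card_zpowers, hx, hAd]
  have hyd : orderOf y = d := by rw [← Nat.card_zpowers, hy, hBd]
  rw [← hx, ← hy]
  -- a common torus
  have hne : ∀ z : G, orderOf z = d → z ≠ 1 := by
    rintro z hz rfl
    rw [orderOf_one] at hz
    exact hd1 hz.symm
  have key : ∀ C : Subgroup G, IsCyclic C → (∀ z : G, orderOf z = d → ∃ g, g⁻¹ * z * g ∈ C) →
      ∃ g : G, zpowers y = (zpowers x).map (MulAut.conj g).toMonoidHom := by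
    intro C hC hcov
    obtain ⟨g₁, h1⟩ := hcov x hxd
    obtain ⟨g₂, h2⟩ := hcov y hyd
    exact exists_map_eq hC h1 h2 (hxd.trans hyd.symm)
  have hconj : ∀ (A B : Subgroup G), d ∣ Nat.card A → Nat.Coprime (Nat.card A) (Nat.card B) →
      d ∣ (3 ^ (2 * m + 1)) ^ 2 - 3 ^ (2 * m + 1) + 1 →
      (∀ x : G, x ≠ 1 → orderOf x ∣ (3 ^ (2 * m + 1)) ^ 2 - 3 ^ (2 * m + 1) + 1 →
        ∃ g : G, g * x * g⁻¹ ∈ A ∨ g * x * g⁻¹ ∈ B) →
      ∀ x : G, orderOf x = d → ∃ g, g⁻¹ * x * g ∈ A := by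
    intro A B hA hAB hQ hc x hx
    obtain ⟨g, hg | hg⟩ := hc x (hne x hx) (by rw [hx]; exact hQ)
    · exact ⟨g⁻¹, by rwa [inv_inv]⟩
    · exfalso
      have h1 := orderOf_dvd_natCard (⟨_, hg⟩ : B)
      have h2 := ReeClass.orderOf_conj x g⁻¹
      rw [inv_inv] at h2
      rw [Subgroup.orderOf_mk, h2] at h1
      exact (hne x hx) (eq_one_of_pows (by rw [hx]; exact hA) h1 hAB)
  rcases hd with hd | hd | hd | hd
  · apply key _ (ReeSplit.isCyclic_hSub D)
    intro z hz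
    have h2 : d ≠ 2 := by
      rintro rfl
      have := odd3 ar
      rw [← Nat.not_even_iff_odd, even_iff_two_dvd] at this
      exact this hd
    have h0 : 0 < orderOf z := orderOf_pos z
    exact conj_hSub D hK S (by omega) (by rw [hz]; exact hd.trans (d3 ar))
  · exact key _ S.cyclic_A (fun z hz => conj_A D hK S (hne z hz) (by rw [hz]; exact hd))
  · exact key _ z1 (hconj A1 A2 (by rw [k1]; exact hd) (by rw [k1, k2]; exact cop_factor m)
      (hd.trans (dvd_Q m).1) hcov)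
  · exact key _ z2 (hconj A2 A1 (by rw [k2]; exact hd) (by rw [k1, k2]; exact (cop_factor m).symm)
      (hd.trans (dvd_Q m).2) (fun x h1 h2 => by
        obtain ⟨g, hg⟩ := hcov x h1 h2
        exact ⟨g, hg.symm⟩))

/-- centralisers of the subgroups of a self-centralising abelian overgroup -/
theorem cent_eq {H M : Subgroup G} (hM : ∀ x ∈ M, ∀ y ∈ M, x * y = y * x) (hHM : H ≤ M)
    (hc : ∀ x ∈ H, x ≠ 1 → ∀ y, y * x = x * y → y ∈ M) {A : Subgroup G} (hA : A ≤ H) (h1 : A ≠ ⊥) :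
    centralizer (A : Set G) = M := by
  obtain ⟨⟨x, hx⟩, hx1'⟩ := Subgroup.ne_bot_iff_exists_ne_one.1 h1
  have hx1 : x ≠ 1 := fun h => hx1' (Subtype.ext h)
  apply le_antisymm
  · intro y hy
    exact hc x (hA hx) hx1 y (mem_centralizer_iff.1 hy x hx).symm
  · intro y hy
    rw [mem_centralizer_iff]
    intro z hz
    exact hM z (hHM (hA hz)) y hy

/-- S2359 -/
theorem centralizers (D : ReeAbs.Data m U h n) (hm : 1 ≤ m) (hK : Fintype.card K = 3 ^ (2 * m + 1))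
    (hG : commutator G = ⊤) (H : Subgroup G) (hH : IsCyclic H) :
    (Nat.card H = (3 ^ (2 * m + 1) - 1) / 2 →
      IsCyclic ↥(Subgroup.centralizer (H : Set G)) ∧
        Nat.card ↥(Subgroup.centralizer (H : Set G)) = 3 ^ (2 * m + 1) - 1 ∧
        ∀ A : Subgroup G, A ≤ H → A ≠ ⊥ →
          Subgroup.centralizer (A : Set G) = Subgroup.centralizer (H : Set G)) ∧
    (Nat.card H = (3 ^ (2 * m + 1) + 1) / 4 →
      IsMulCommutative ↥(Subgroup.centralizer (H : Set G)) ∧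
        Nat.card ↥(Subgroup.centralizer (H : Set G)) = 3 ^ (2 * m + 1) + 1 ∧
        (∀ x ∈ Subgroup.centralizer (H : Set G), orderOf x ≠ 4) ∧
        ∀ A : Subgroup G, A ≤ H → A ≠ ⊥ →
          Subgroup.centralizer (A : Set G) = Subgroup.centralizer (H : Set G)) := by
  have : CharP K 3 := ReeAbs.charP_three hK
  have Dl := ReeSetup.local_of_data D hK
  have ar := ReeClass.arith m
  obtain ⟨f, t₀, S⟩ := ReeSetup.exists_setup D hK hG Dl
  have h8 := ar.q8
  have hq27 : 27 ≤ 3 ^ (2 * m + 1) := by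
    calc 27 = 3 ^ 3 := by norm_num
      _ ≤ 3 ^ (2 * m + 1) := Nat.pow_le_pow_right (by norm_num) (by omega)
  obtain ⟨x, hx⟩ := (Subgroup.isCyclic_iff_exists_zpowers_eq_top H).1 hH
  have hxH : orderOf x = Nat.card H := by rw [← Nat.card_zpowers, hx]
  have hbot : 1 < Nat.card H → H ≠ ⊥ := by
    rintro h1 rfl
    rw [Subgroup.card_bot] at h1
    omega
  -- conjugates
  have hmem : ∀ (C : Subgroup G) (g z : G), z ∈ C.map (MulAut.conj g).toMonoidHom ↔ g⁻¹ * z * g ∈ C := by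
    intro C g z
    rw [Subgroup.mem_map]
    constructor
    · rintro ⟨c, hc, rfl⟩
      have : g⁻¹ * (MulAut.conj g).toMonoidHom c * g = c := by
        simp only [MulEquiv.coe_toMonoidHom, MulAut.conj_apply]; group
      rw [this]; exact hc
    · intro hz
      refine ⟨_, hz, ?_⟩
      simp only [MulEquiv.coe_toMonoidHom, MulAut.conj_apply]; group
  have hcard : ∀ (C : Subgroup G) (g : G), Nat.card (C.map (MulAut.conj g).toMonoidHom) = Nat.card C := by
    intro C g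
    exact Nat.card_congr (C.equivMapOfInjective _ (MulAut.conj g).injective).symm.toEquiv
  constructor
  · intro hc
    obtain ⟨g, hg⟩ := conj_hSub D hK S (x := x) (by rw [hxH, hc]; omega)
      (by rw [hxH, hc]; exact d3 ar)
    have hgA : g⁻¹ * x * g ∈ ReeSplit.aSub D := by
      apply ReeSplit.mem_aSub_of_odd D hK hg
      rw [ReeClass.orderOf_conj, hxH, hc]
      exact odd3 ar
    set M := (ReeSplit.hSub D).map (MulAut.conj g).toMonoidHom with hMdef
    have hMc : ∀ x ∈ M, ∀ y ∈ M, x * y = y * x := by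
      rintro _ ⟨x', hx', rfl⟩ _ ⟨y', hy', rfl⟩
      rw [← map_mul, ← map_mul]
      congr 1
      obtain ⟨b, rfl⟩ := (ReeSplit.mem_hSub D).1 hx'
      obtain ⟨c, rfl⟩ := (ReeSplit.mem_hSub D).1 hy'
      exact D.h_comm _ _
    have hHA : ∀ z ∈ H, g⁻¹ * z * g ∈ ReeSplit.aSub D := by
      intro z hz
      rw [← hx] at hz
      obtain ⟨k, rfl⟩ := hz
      simp only
      have h1 := conj_zpow (i := k) (a := g⁻¹) (b := x)
      rw [inv_inv] at h1
      rw [← h1]
      exact (ReeSplit.aSub D).zpow_mem hgA k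
    have hHM : H ≤ M := fun z hz => (hmem _ _ _).2 (ReeSplit.aSub_le D (hHA z hz))
    have hcen : ∀ x ∈ H, x ≠ 1 → ∀ y, y * x = x * y → y ∈ M := by
      intro z hz hz1 y hy
      rw [hmem]
      exact Dl.cent_A _ (hHA z hz) (conj_ne hz1 g) _ (conj_comm hy g)
    have key := fun (A : Subgroup G) (hA : A ≤ H) (h1 : A ≠ ⊥) => cent_eq hMc hHM hcen hA h1
    have hb : H ≠ ⊥ := hbot (by rw [hc]; omega)
    rw [key H le_rfl hb]
    refine ⟨?_, ?_, fun A hA h1 => key A hA h1⟩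
    · have := ReeSplit.isCyclic_hSub D
      exact isCyclic_of_surjective _ ((ReeSplit.hSub D).equivMapOfInjective
        (MulAut.conj g).toMonoidHom (MulAut.conj g).injective).surjective
    · rw [hcard, ReeSplit.card_hSub D, hK]
  · intro hc
    have hx1 : x ≠ 1 := by
      rintro rfl
      rw [orderOf_one] at hxH
      omega
    obtain ⟨g, hg⟩ := conj_A D hK S (x := x) hx1 (by rw [hxH, hc])
    set M := S.EA.map (MulAut.conj g).toMonoidHom with hMdef
    have hMc : ∀ x ∈ M, ∀ y ∈ M, x * y = y * x := by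
      rintro _ ⟨x', hx', rfl⟩ _ ⟨y', hy', rfl⟩
      rw [← map_mul, ← map_mul]
      congr 1
      exact S.EA_comm hx' hy'
    have hHA : ∀ z ∈ H, g⁻¹ * z * g ∈ S.A := by
      intro z hz
      rw [← hx] at hz
      obtain ⟨k, rfl⟩ := hz
      simp only
      have h1 := conj_zpow (i := k) (a := g⁻¹) (b := x)
      rw [inv_inv] at h1
      rw [← h1]
      exact S.A.zpow_mem hg k
    have hHM : H ≤ M := fun z hz => (hmem _ _ _).2 (S.A_le_EA (hHA z hz))
    have hcen : ∀ x ∈ H, x ≠ 1 → ∀ y, y * x = x * y → y ∈ M := by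
      intro z hz hz1 y hy
      rw [hmem]
      exact S.cent_x (hHA z hz) (conj_ne hz1 g) (conj_comm hy g)
    have key := fun (A : Subgroup G) (hA : A ≤ H) (h1 : A ≠ ⊥) => cent_eq hMc hHM hcen hA h1
    have hb : H ≠ ⊥ := hbot (by rw [hc]; omega)
    rw [key H le_rfl hb]
    refine ⟨?_, ?_, ?_, fun A hA h1 => key A hA h1⟩
    · exact ⟨⟨fun x y => Subtype.ext (hMc x.1 x.2 y.1 y.2)⟩⟩
    · rw [hcard, card_EA]
    · intro z _ ho
      have h2 : IsPGroup 2 (zpowers z) := by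
        apply IsPGroup.of_card (n := 2)
        rw [Nat.card_zpowers, ho]; norm_num
      have h3 := S.two _ h2 _ (mem_zpowers _)
      rw [← pow_two] at h3
      have h5 := orderOf_dvd_of_pow_eq_one h3
      rw [ho] at h5
      exact absurd h5 (by norm_num)

end Cfsg.Agent.H125.ReeCounts
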