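import Mathlib
import Cfsg.Prelude.Def_Sporadic
import Cfsg.Agent.S0553
import Cfsg.Agent.Lib.MinNormal
import Cfsg.Agent.Lib.Zsigmondy
import Cfsg.Agent.SmallSimple.PSLTwoPart
import Cfsg.Agent.H125.ReeSolv

/-!
# Subgroups of the small Ree groups of order divisible by a Zsigmondy prime of `q² - q + 1`

A proper subgroup of order divisible by a prime `r` with `ord_r(3) = 6 (2m+1)` has order at most
`6 (q + 3^(m+1) + 1)`; so no proper subgroup has order divisible by `q³ + 1`.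
-/

set_option autoImplicit false
set_option linter.unusedSectionVars false

namespace Cfsg.Agent.H125.ReeSub

open Subgroup
open Cfsg.Agent.LieRecognition
open Cfsg.Agent.LieRecognition.ReeInv
open Cfsg.Agent.LieRecognition.ReeTorusB
open Cfsg.Agent.LieRecognition.ReeClass
open Cfsg.Agent.H125.ReeFull
open Cfsg.Agent.H125.ReeSolv

open Cfsg.Agent.ClassicalGeometry.SLTwoFour (ext2 mul00 mul01 mul10 mul11 one00 one01 one10 one11 neg_ij)

universe w

/-- non-abelian simple groups have even order (Feit–Thompson), at one universe level -/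
def EvenSimple : Prop := ∀ (X : Type w) [Group X] [Finite X] [IsSimpleGroup X],
  ¬ IsMulCommutative X → Even (Nat.card X)

/-- Walter's theorem (S0506), at one universe level -/
def Walter : Prop := ∀ (X : Type w) [Group X] [Finite X] [IsSimpleGroup X],
  ¬ IsMulCommutative X → ∀ (S : Sylow 2 X), IsMulCommutative (S : Subgroup X) →
    (∃ a : ℕ, 2 ≤ a ∧ ∃ (F : Type) (_ : Field F) (_ : Fintype F), Fintype.card F = 2 ^ a ∧ Nonempty (X ≃* Matrix.ProjectiveSpecialLinearGroup (Fin 2) F)) ∨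
      (∃ (F : Type) (_ : Field F) (_ : Fintype F), (Fintype.card F % 8 = 3 ∨ Fintype.card F % 8 = 5) ∧ Nonempty (X ≃* Matrix.ProjectiveSpecialLinearGroup (Fin 2) F)) ∨
      Cfsg.IsRee X ∨ Cfsg.IsJ1 X

section arith

/-- the primes in question -/
structure Zs (m r : ℕ) : Prop where
  prime : r.Prime
  ord : ∀ k, r ∣ 3 ^ k - 1 ↔ 6 * (2 * m + 1) ∣ k
  dvd : 6 * (2 * m + 1) ∣ r - 1
  three : ¬ r ∣ 3

theorem exists_zs (m : ℕ) : ∃ r, Zs m r := by
  obtain ⟨r, h1, h2, h3, h4⟩ := Cfsg.Agent.Lib.Zsigmondy.exists_primitive (a := 3) (n := 6 * (2 * m + 1))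
    (by norm_num) (by omega) (by intro h; omega) (by omega)
  exact ⟨r, h1, h2, h3, h4⟩

variable {m r : ℕ}

theorem Zs.ge (h : Zs m r) (hm : 1 ≤ m) : 19 ≤ r := by
  have h1 := Nat.le_of_dvd (by have := h.prime.two_le; omega) h.dvd
  omega

theorem Zs.not_q (h : Zs m r) (k : ℕ) : ¬ r ∣ 3 ^ k := fun h1 => h.three (h.prime.dvd_of_dvd_pow h1)

theorem Zs.not_sub (h : Zs m r) : ¬ r ∣ 3 ^ (2 * m + 1) - 1 := by
  rw [h.ord]
  intro h1
  have := Nat.le_of_dvd (by omega) h1
  omega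

theorem Zs.not_add (h : Zs m r) : ¬ r ∣ 3 ^ (2 * m + 1) + 1 := by
  intro h1
  have h2 : r ∣ 3 ^ (2 * (2 * m + 1)) - 1 := by
    have h3 : 3 ^ (2 * (2 * m + 1)) - 1 = (3 ^ (2 * m + 1) + 1) * (3 ^ (2 * m + 1) - 1) := by
      have := Nat.sq_sub_sq (3 ^ (2 * m + 1)) 1
      rw [one_pow] at this
      rw [← this, ← pow_mul, mul_comm (2 * m + 1) 2]
    rw [h3]
    exact h1.mul_right _
  rw [h.ord] at h2
  have := Nat.le_of_dvd (by omega) h2
  omega

theorem Zs.dvd_Q (h : Zs m r) : r ∣ (3 ^ (2 * m + 1)) ^ 2 - 3 ^ (2 * m + 1) + 1 := by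
  have h1 : r ∣ 3 ^ (6 * (2 * m + 1)) - 1 := (h.ord _).2 dvd_rfl
  have ar := ReeClass.arith m
  have h8 := ar.q8
  have h2 : 3 ^ (6 * (2 * m + 1)) = (3 ^ (2 * m + 1)) ^ 6 := by rw [← pow_mul, mul_comm]
  have h3 : ¬ r ∣ (3 ^ (2 * m + 1)) ^ 3 - 1 := by
    rw [← pow_mul, h.ord]
    intro h4
    have := Nat.le_of_dvd (by omega) h4
    omega
  have h4 : (3 ^ (2 * m + 1)) ^ 6 - 1 = ((3 ^ (2 * m + 1)) ^ 3 + 1) * ((3 ^ (2 * m + 1)) ^ 3 - 1) := by
    have := Nat.sq_sub_sq ((3 ^ (2 * m + 1)) ^ 3) 1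
    rw [one_pow, ← pow_mul] at this
    exact this
  rw [h2, h4, h.prime.dvd_mul, ar.cube, h.prime.dvd_mul] at h1
  rcases h1 with (h1 | h1) | h1
  · exact absurd h1 h.not_add
  · exact h1
  · exact absurd h1 h3

end arith

section main

variable {K : Type*} [Field K] [Fintype K] {G : Type w} [Group G] [Finite G] {m r : ℕ}
  {U : K → K → K → G} {h : Kˣ → G} {n : G}
variable {L : Type*} [Group L] {a : G} {f : L →* G} {i j u t₀ : L} {T : Subgroup L} {q : ℕ}

/-- elements of order `r` commute with no involution -/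
theorem no_comm (S : Setup G L (3 ^ (2 * m + 1)) a f i j u t₀ T) (hr : Zs m r) {y t : G}
    (hy : orderOf y = r) (ht1 : t ≠ 1) (ht2 : t * t = 1) : ¬ Commute y t := by
  intro hc
  obtain ⟨g, hg⟩ := S.conjG t ht1 ht2
  have h1 : g⁻¹ * y * g ∈ (centralizer {a} : Subgroup G) := by
    rw [mem_centralizer_singleton_iff]
    have h2 : a = g⁻¹ * t * g := by rw [← hg]; group
    rw [h2]
    exact conj_comm hc.eq g
  have h3 := orderOf_dvd_natCard (⟨_, h1⟩ : (centralizer {a} : Subgroup G))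
  rw [Subgroup.orderOf_mk, ReeClass.orderOf_conj, hy, ReeClass.card_centralizer S] at h3
  have h4 : (3 ^ (2 * m + 1)) ^ 2 - 1 = (3 ^ (2 * m + 1) + 1) * (3 ^ (2 * m + 1) - 1) := by
    have := Nat.sq_sub_sq (3 ^ (2 * m + 1)) 1
    rwa [one_pow] at this
  rw [h4, hr.prime.dvd_mul, hr.prime.dvd_mul] at h3
  rcases h3 with h3 | h3 | h3
  · exact hr.not_q _ h3
  · exact hr.not_add h3
  · exact hr.not_sub h3

/-- elements of order `r` normalise no non-trivial `2`-subgroup -/
theorem no_two {A B H N V : Subgroup G} (D : Local G (3 ^ (2 * m + 1)) V B H A N)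
    (S : Setup G L (3 ^ (2 * m + 1)) a f i j u t₀ T) (hm : 1 ≤ m) (hr : Zs m r) {y : G}
    (hy : orderOf y = r) {M : Subgroup G} (hM : IsPGroup 2 M) (hM1 : M ≠ ⊥)
    (hyM : ∀ x ∈ M, y * x * y⁻¹ ∈ M) : False := by
  classical
  have hr19 := hr.ge hm
  obtain ⟨⟨e, he⟩, he1'⟩ := Subgroup.ne_bot_iff_exists_ne_one.1 hM1
  have he1 : e ≠ 1 := fun h => he1' (Subtype.ext h)
  have hM2 : ∀ x ∈ M, x * x = 1 := S.two M hM
  obtain ⟨P, hP⟩ := hM.exists_le_sylow
  have hPc := card_sylow_two D (ReeClass.arith m) P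
  have hle : Nat.card M ≤ 8 := by
    rw [← hPc]; exact Subgroup.card_le_of_le hP
  have hpow : ∀ k : ℕ, ∀ x ∈ M, y ^ k * x * (y ^ k)⁻¹ ∈ M := by
    intro k
    induction k with
    | zero => intro x hx; simpa using hx
    | succ k ih =>
      intro x hx
      have h1 := ih _ (hyM x hx)
      have h2 : y ^ k * (y * x * y⁻¹) * (y ^ k)⁻¹ = y ^ (k + 1) * x * (y ^ (k + 1))⁻¹ := by
        rw [pow_succ]; group
      rwa [h2] at h1
  have := Fintype.ofFinite M
  let F : Fin 9 → M := fun k => ⟨y ^ (k : ℕ) * e * (y ^ (k : ℕ))⁻¹, hpow k e he⟩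
  obtain ⟨k, l, hkl, hF⟩ := Fintype.exists_ne_map_eq_of_card_lt F (by
    rw [Fintype.card_fin, ← Nat.card_eq_fintype_card]; omega)
  have key : ∀ k l : Fin 9, (k : ℕ) < l → F k = F l → False := by
    intro k l hlt hF
    have h1 : y ^ (k : ℕ) * e * (y ^ (k : ℕ))⁻¹ = y ^ (l : ℕ) * e * (y ^ (l : ℕ))⁻¹ :=
      congrArg Subtype.val hF
    set d := (l : ℕ) - k with hd
    have hdl : (l : ℕ) = k + d := by omega
    have h2 : Commute (y ^ d) e := by
      rw [hdl, pow_add] at h1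
      have h3 : e = y ^ d * e * (y ^ d)⁻¹ := by
        have h4 : (y ^ (k : ℕ))⁻¹ * (y ^ (k : ℕ) * e * (y ^ (k : ℕ))⁻¹) * y ^ (k : ℕ) = e := by group
        rw [h1] at h4
        exact h4.symm.trans (by group)
      calc y ^ d * e = (y ^ d * e * (y ^ d)⁻¹) * y ^ d := by group
        _ = e * y ^ d := by rw [← h3]
    have hd9 : d < 9 := by have := l.2; omega
    have hcop : Nat.Coprime (orderOf y) d := by
      rw [hy, Nat.Prime.coprime_iff_not_dvd hr.prime]
      intro h3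
      have := Nat.le_of_dvd (by omega) h3
      omega
    obtain ⟨c, hc⟩ := exists_pow_eq_self_of_coprime hcop.symm
    have h3 : Commute y e := by
      rw [← hc]
      exact h2.pow_left c
    exact no_comm S hr hy he1 (hM2 e he) h3
  rcases lt_or_gt_of_ne (fun h => hkl (Fin.ext h) : (k : ℕ) ≠ l) with h1 | h1
  · exact key k l h1 hF
  · exact key l k h1 hF.symm

theorem card_normalizer_map_conj (C : Subgroup G) (g : G) :
    Nat.card (normalizer ((C.map (MulAut.conj g).toMonoidHom : Subgroup G) : Set G)) =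
      Nat.card (normalizer (C : Set G)) := by
  have h1 : normalizer ((C.map (MulAut.conj g).toMonoidHom : Subgroup G) : Set G) =
      (normalizer (C : Set G)).map (MulAut.conj g).toMonoidHom := by
    ext x
    rw [mem_map_conj, mem_normalizer_iff, mem_normalizer_iff]
    constructor
    · intro hx y
      have h2 := hx (g * y * g⁻¹)
      simp only [mem_map_conj] at h2
      have e1 : g⁻¹ * (g * y * g⁻¹) * g = y := by group
      have e2 : g⁻¹ * (x * (g * y * g⁻¹) * x⁻¹) * g = g⁻¹ * x * g * y * (g⁻¹ * x * g)⁻¹ := by group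
      rwa [e1, e2] at h2
    · intro hx y
      have h2 := hx (g⁻¹ * y * g)
      simp only [mem_map_conj] at h2 ⊢
      have e2 : g⁻¹ * x * g * (g⁻¹ * y * g) * (g⁻¹ * x * g)⁻¹ = g⁻¹ * (x * y * x⁻¹) * g := by group
      rwa [e2] at h2
  rw [h1, card_map_conj]

/-- local subgroups of order divisible by `r` -/
theorem local_le (D : ReeAbs.Data m U h n) (hm : 1 ≤ m) (hK : Fintype.card K = 3 ^ (2 * m + 1))
    (hG : commutator G = ⊤)
    (hcyc : ∀ x : G, x ≠ 1 → orderOf x ∣ (3 ^ (2 * m + 1)) ^ 2 - 3 ^ (2 * m + 1) + 1 →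
      IsCyclic (centralizer {x}) ∧
        Nat.card (normalizer (centralizer {x} : Set G)) ∣ 6 * Nat.card (centralizer {x}))
    (hr : Zs m r) (X : Subgroup G) (hX : r ∣ Nat.card X) {s : ℕ} (hs : s.Prime) {M : Subgroup G}
    (hM : IsPGroup s M) (hM1 : M ≠ ⊥) (hnorm : ∀ g ∈ X, ∀ x ∈ M, g⁻¹ * x * g ∈ M) :
    Nat.card X ≤ 6 * (3 ^ (2 * m + 1) + 3 ^ (m + 1) + 1) := by
  classical
  have : CharP K 3 := ReeAbs.charP_three hK
  have Dl := ReeSetup.local_of_data D hK
  have ar := ReeClass.arith m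
  obtain ⟨f, t₀, S⟩ := ReeSetup.exists_setup D hK hG Dl
  obtain ⟨A1, A2, z1, z2, k1, k2, n1, n2, x1, x2, hcov⟩ := ReeSetup.exists_tori D hm hK hG hcyc
  have facts : Fact s.Prime := ⟨hs⟩
  have factr : Fact r.Prime := ⟨hr.prime⟩
  by_cases hs2 : s = 2
  · exfalso
    subst hs2
    obtain ⟨y, hy⟩ := exists_prime_orderOf_dvd_card' r hX
    refine no_two Dl S hm hr (y := (y : G)) (by rw [Subgroup.orderOf_coe, hy]) hM hM1 ?_
    intro x hx
    have := hnorm (y : G)⁻¹ (X.inv_mem y.2) x hx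
    rwa [inv_inv] at this
  have hRodd : ∀ y ∈ M, Odd (orderOf y) := by
    intro y hy
    obtain ⟨k, hk⟩ := IsPGroup.iff_orderOf.1 hM ⟨y, hy⟩
    rw [Subgroup.orderOf_mk] at hk
    rw [hk]
    exact (hs.odd_of_ne_two hs2).pow
  have hbot : ∀ C : Subgroup G, 1 < Nat.card C → C ≠ ⊥ := by
    rintro C h1 rfl
    rw [Subgroup.card_bot] at h1
    omega
  have hq27 : 27 ≤ 3 ^ (2 * m + 1) := by
    calc 27 = 3 ^ 3 := by norm_num
      _ ≤ 3 ^ (2 * m + 1) := Nat.pow_le_pow_right (by norm_num) (by omega)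
  have hr2 : ¬ r ∣ 2 := fun h1 => by
    have := Nat.le_of_dvd (by norm_num) h1
    have := hr.ge hm
    omega
  have hr6 : ¬ r ∣ 6 := fun h1 => by
    have := Nat.le_of_dvd (by norm_num) h1
    have := hr.ge hm
    omega
  obtain ⟨z, hz, hz1, hzc⟩ := exists_central hM hM1
  rcases classify Dl ar S hz1 (hRodd z hz) with ⟨g, hg⟩ | ⟨g, hg⟩ | ⟨g, hg⟩ | hg
  · exfalso
    have h1 := le_normalizer_of_TI (fun x hx hx1 y hy ho => (Dl.cent_U x hx hx1 y hy).2 ho)
      (fun x hx hx1 g hg y hy => Dl.B_U g (Dl.TI_U x hx hx1 g hg) y hy) hRodd hnorm hz hz1 hzc hg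
    have h2 := hX.trans (Subgroup.card_dvd_of_le h1)
    rw [card_normalizer_map_conj] at h2
    have h3 : normalizer (ReeSylowThree.uSub D : Set G) ≤ ReeSplit.bSub D := by
      intro g hg
      obtain ⟨⟨x, hx⟩, hx1'⟩ := Subgroup.ne_bot_iff_exists_ne_one.1 (hbot (ReeSylowThree.uSub D)
        (by rw [Dl.card_U]; exact Nat.one_lt_pow (by norm_num) (by omega)))
      have hx1 : x ≠ 1 := fun h => hx1' (Subtype.ext h)
      have h4 := (mem_normalizer_iff.1 ((normalizer (ReeSylowThree.uSub D : Set G)).inv_mem hg) x).1 hx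
      rw [inv_inv] at h4
      exact Dl.TI_U x hx hx1 g h4
    have h4 := h2.trans (Subgroup.card_dvd_of_le h3)
    rw [Dl.card_B, hr.prime.dvd_mul, ← pow_mul] at h4
    rcases h4 with h4 | h4
    · exact hr.not_q _ h4
    · exact hr.not_sub h4
  · exfalso
    have h1 := le_normalizer_of_TI (fun x hx hx1 y hy ho => Dl.odd_H y (Dl.cent_A x hx hx1 y hy) ho)
      (fun x hx hx1 g hg y hy => Dl.N_A g (Dl.TI_A x hx hx1 g hg) y hy) hRodd hnorm hz hz1 hzc hg
    have h2 := hX.trans (Subgroup.card_dvd_of_le h1)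
    rw [card_normalizer_map_conj, ReeSplit.normalizer_eq D hK le_rfl (hbot _ (by rw [Dl.card_A]; omega)),
      Dl.card_N, hr.prime.dvd_mul] at h2
    rcases h2 with h2 | h2
    · exact hr2 h2
    · exact hr.not_sub h2
  · exfalso
    have h1 := le_normalizer_of_TI (fun x hx hx1 y hy ho => S.odd_EA (S.cent_x hx hx1 hy) ho)
      (fun x hx hx1 g hg y hy => S.N_norm_A (S.TI hx hx1 hg) hy) hRodd hnorm hz hz1 hzc hg
    have h2 := hX.trans (Subgroup.card_dvd_of_le h1)
    rw [card_normalizer_map_conj, S.normalizer_eq le_rfl (hbot _ (by rw [S.card_A]; omega)),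
      S.card_N, hr.prime.dvd_mul] at h2
    rcases h2 with h2 | h2
    · exact hr6 h2
    · exact hr.not_add h2
  · have key : ∀ C : Subgroup G, (∀ x ∈ C, x ≠ 1 → centralizer {x} = C) → ∀ g, g * z * g⁻¹ ∈ C →
        Nat.card X ≤ Nat.card (normalizer (C : Set G)) := by
      intro C hC g hg
      rw [← card_normalizer_map_conj C g⁻¹]
      apply Subgroup.card_le_of_le
      refine le_normalizer_of_TI ?_ ?_ hRodd hnorm hz hz1 hzc (by rwa [inv_inv])
      · intro x hx hx1 y hy _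
        rw [← hC x hx hx1, mem_centralizer_singleton_iff]
        exact hy
      · intro x hx hx1 g hg y hy
        have h1 := (normalizer (C : Set G)).inv_mem (mem_normalizer_of_conj hC hx hx1 hg)
        have h2 := (mem_normalizer_iff.1 h1 y).1 hy
        rwa [inv_inv] at h2
    obtain ⟨g, hg | hg⟩ := hcov z hz1 hg
    · refine (key A1 x1 g hg).trans ?_
      rw [n1]
      apply Nat.mul_le_mul_left
      have h3 : 0 < 3 ^ (m + 1) := by positivity
      omega
    · refine (key A2 x2 g hg).trans ?_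
      rw [n2]

/-- fusion of elements of prime order `≥ 5` in their centraliser -/
theorem fusion_le (D : ReeAbs.Data m U h n) (hm : 1 ≤ m) (hK : Fintype.card K = 3 ^ (2 * m + 1))
    (hG : commutator G = ⊤)
    (hcyc : ∀ x : G, x ≠ 1 → orderOf x ∣ (3 ^ (2 * m + 1)) ^ 2 - 3 ^ (2 * m + 1) + 1 →
      IsCyclic (centralizer {x}) ∧
        Nat.card (normalizer (centralizer {x} : Set G)) ∣ 6 * Nat.card (centralizer {x}))
    {x : G} {s : ℕ} (hs : s.Prime) (hs5 : 5 ≤ s) (hx : orderOf x = s) :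
    Nat.card {y : G // (∃ g : G, g * x * g⁻¹ = y) ∧ y * x = x * y} ≤ 6 := by
  classical
  have : CharP K 3 := ReeAbs.charP_three hK
  have Dl := ReeSetup.local_of_data D hK
  have ar := ReeClass.arith m
  obtain ⟨f, t₀, S⟩ := ReeSetup.exists_setup D hK hG Dl
  obtain ⟨A1, A2, z1, z2, k1, k2, n1, n2, x1, x2, hcov⟩ := ReeSetup.exists_tori D hm hK hG hcyc
  have hodd : Odd s := hs.odd_of_ne_two (by omega)
  have hx1 : x ≠ 1 := by
    rintro rfl
    rw [orderOf_one] at hx
    omega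
  have hq27 : 27 ≤ 3 ^ (2 * m + 1) := by
    calc 27 = 3 ^ 3 := by norm_num
      _ ≤ 3 ^ (2 * m + 1) := Nat.pow_le_pow_right (by norm_num) (by omega)
  -- the general principle
  have key : ∀ (C H N : Subgroup G) (g : G), g⁻¹ * x * g ∈ C → H ≤ N → 0 < Nat.card H →
      Nat.card N ≤ 6 * Nat.card H →
      (∀ x ∈ C, x ≠ 1 → ∀ y, y * x = x * y → Odd (orderOf y) → y ∈ C) →
      (∀ x ∈ C, x ≠ 1 → ∀ g, g⁻¹ * x * g ∈ C → g ∈ N) →
      (∀ x ∈ C, ∀ y ∈ H, y * x = x * y) →
      Nat.card {y : G // (∃ g : G, g * x * g⁻¹ = y) ∧ y * x = x * y} ≤ 6 := by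
    intro C H N g hg hHN hH hN hcent hTI hcomm
    set x' := g⁻¹ * x * g with hx'
    have h1 := card_orbit_conj N x'
    have h2 : Nat.card {y : G // (∃ g : G, g * x * g⁻¹ = y) ∧ y * x = x * y} ≤
        Nat.card {y : G // ∃ n ∈ N, n * x' * n⁻¹ = y} := by
      apply Nat.card_le_card_of_injective
        (fun y : {y : G // (∃ g : G, g * x * g⁻¹ = y) ∧ y * x = x * y} =>
          (⟨g⁻¹ * y.1 * g, by
            obtain ⟨y, ⟨k, hk⟩, hy⟩ := y
            have h3 : g⁻¹ * y * g ∈ C := by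
              apply hcent x' hg (conj_ne hx1 g) _ (conj_comm hy g)
              rw [ReeClass.orderOf_conj, ← hk]
              have h4 := ReeClass.orderOf_conj x k⁻¹
              rw [inv_inv] at h4
              rw [h4, hx]
              exact hodd
            refine ⟨g⁻¹ * k * g, ?_, ?_⟩
            · have h5 : (g⁻¹ * k * g)⁻¹ ∈ N := by
                apply hTI x' hg (conj_ne hx1 g)
                have : (g⁻¹ * k * g)⁻¹⁻¹ * x' * (g⁻¹ * k * g)⁻¹ = g⁻¹ * y * g := by
                  rw [hx', ← hk]; group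
                rwa [this]
              have := N.inv_mem h5
              rwa [inv_inv] at this
            · change g⁻¹ * k * g * x' * (g⁻¹ * k * g)⁻¹ = g⁻¹ * y * g
              rw [hx', ← hk]; group⟩ : {y : G // ∃ n ∈ N, n * x' * n⁻¹ = y}))
      intro y z hyz
      have h3 := congrArg Subtype.val hyz
      simp only at h3
      exact Subtype.ext (mul_left_cancel (mul_right_cancel h3))
    have h3 : H ≤ N ⊓ centralizer {x'} := by
      intro y hy
      exact ⟨hHN hy, mem_centralizer_singleton_iff.2 (hcomm x' hg y hy)⟩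
    have h4 := Subgroup.card_le_of_le h3
    have h5 : Nat.card {y : G // ∃ n ∈ N, n * x' * n⁻¹ = y} ≤ 6 := by
      by_contra hcon
      have h6 : 7 * Nat.card H ≤ Nat.card N := by
        rw [h1]
        exact Nat.mul_le_mul (by omega) h4
      omega
    exact h2.trans h5
  rcases classify Dl ar S hx1 (by rw [hx]; exact hodd) with ⟨g, hg⟩ | ⟨g, hg⟩ | ⟨g, hg⟩ | hg
  · exfalso
    have h1 := orderOf_dvd_of_pow_eq_one (Dl.U_exp _ hg)
    rw [ReeClass.orderOf_conj, hx] at h1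
    have h2 : (9 : ℕ) = 3 ^ 2 := by norm_num
    rw [h2] at h1
    have := (Nat.prime_dvd_prime_iff_eq hs Nat.prime_three).1 (hs.dvd_of_dvd_pow h1)
    omega
  · refine key (ReeSplit.aSub D) (ReeSplit.hSub D) (ReeSplit.nSub D) g hg (ReeSplit.hSub_le_nSub D)
      Nat.card_pos ?_ (fun x hx hx1 y hy ho => Dl.odd_H y (Dl.cent_A x hx hx1 y hy) ho) Dl.TI_A ?_
    · rw [Dl.card_N, Dl.card_H]
      apply Nat.mul_le_mul_right
      norm_num
    · intro x hx y hy
      obtain ⟨b, rfl⟩ := (ReeSplit.mem_hSub D).1 (ReeSplit.aSub_le D hx)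
      obtain ⟨c, rfl⟩ := (ReeSplit.mem_hSub D).1 hy
      exact D.h_comm _ _
  · refine key S.A S.EA S.N g hg ?_ Nat.card_pos ?_ (fun x hx hx1 y hy ho => S.odd_EA (S.cent_x hx hx1 hy) ho)
      (fun x hx hx1 g hg => S.TI hx hx1 hg) (fun x hx y hy => S.EA_comm hy (S.A_le_EA hx))
    · intro y hy
      apply mem_normalizer_of_forall
      intro v hv
      have : y * v * y⁻¹ = v := by rw [S.EA_comm hy (S.V_le_EA hv)]; group
      rwa [this]
    · rw [S.card_N, card_EA]
  · have h1 : ∀ C : Subgroup G, IsCyclic C → (∀ x ∈ C, x ≠ 1 → centralizer {x} = C) → ∀ g, g * x * g⁻¹ ∈ C →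
        Nat.card (normalizer (C : Set G)) = 6 * Nat.card C →
        Nat.card {y : G // (∃ g : G, g * x * g⁻¹ = y) ∧ y * x = x * y} ≤ 6 := by
      intro C hCc hC g hg hN
      refine key C C (normalizer (C : Set G)) g⁻¹ (by rwa [inv_inv]) le_normalizer Nat.card_pos hN.le ?_ ?_ ?_
      · intro x hx hx1 y hy _
        rw [← hC x hx hx1, mem_centralizer_singleton_iff]
        exact hy
      · intro x hx hx1 g hg
        exact mem_normalizer_of_conj hC hx hx1 hg
      · intro x hx y hy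
        obtain ⟨z, hz⟩ := (Subgroup.isCyclic_iff_exists_zpowers_eq_top C).1 hCc
        rw [← hz] at hx hy
        obtain ⟨k, rfl⟩ := hx
        obtain ⟨l, rfl⟩ := hy
        exact ((Commute.refl z).zpow_zpow l k).eq
    obtain ⟨g, hg | hg⟩ := hcov x hx1 hg
    · exact h1 A1 z1 x1 g hg (by rw [n1, k1])
    · exact h1 A2 z2 x2 g hg (by rw [n2, k2])

/-- upper unitriangular matrices -/
def uu {F : Type*} [Field F] (c : F) : ReePSL.S F := ⟨!![1, c; 0, 1], by rw [Matrix.det_fin_two_of]; ring⟩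

/-- diagonal matrices -/
def dd {F : Type*} [Field F] (c : Fˣ) : ReePSL.S F :=
  ⟨!![(c : F), 0; 0, ((c⁻¹ : Fˣ) : F)], by rw [Matrix.det_fin_two_of]; simp⟩

theorem uu_mul {F : Type*} [Field F] (c d : F) : uu c * uu d = uu (c + d) := by
  apply ext2
  · rw [mul00]; change 1 * 1 + c * 0 = (1 : F); ring
  · rw [mul01]; change 1 * d + c * 1 = c + d; ring
  · rw [mul10]; change 0 * 1 + 1 * 0 = (0 : F); ring
  · rw [mul11]; change 0 * d + 1 * 1 = (1 : F); ring

theorem dd_uu {F : Type*} [Field F] (a : Fˣ) (c : F) : dd a * uu c = uu ((a : F) ^ 2 * c) * dd a := by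
  apply ext2
  · rw [mul00, mul00]
    change (a : F) * 1 + 0 * 0 = 1 * (a : F) + ((a : F) ^ 2 * c) * 0; ring
  · rw [mul01, mul01]
    change (a : F) * c + 0 * 1 = 1 * 0 + ((a : F) ^ 2 * c) * ((a⁻¹ : Fˣ) : F)
    have h1 : (a : F) * ((a⁻¹ : Fˣ) : F) = 1 := Units.mul_inv a
    linear_combination (-(a : F) * c) * h1
  · rw [mul10, mul10]
    change 0 * 1 + ((a⁻¹ : Fˣ) : F) * 0 = 0 * (a : F) + 1 * 0; ring
  · rw [mul11, mul11]
    change 0 * c + ((a⁻¹ : Fˣ) : F) * 1 = 0 * 0 + 1 * ((a⁻¹ : Fˣ) : F); ring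

theorem pr_uu_inj {F : Type*} [Field F] {c d : F} (h : ReePSL.pr F (uu c) = ReePSL.pr F (uu d)) : c = d := by
  rcases (ReePSL.pr_eq_iff _ _).1 h with h1 | h1
  · have := congrArg (fun y : ReePSL.S F => y 0 1) h1
    simpa [uu] using this
  · have h2 := congrArg (fun y : ReePSL.S F => y 0 1) h1
    have h3 := congrArg (fun y : ReePSL.S F => y 0 0) h1
    have h2' : c = -d := by
      simp only [neg_ij] at h2
      exact h2
    have h3' : (1 : F) = -1 := by
      simp only [neg_ij] at h3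
      exact h3
    calc c = -d := h2'
      _ = (-1) * d := by ring
      _ = d := by rw [← h3', one_mul]

theorem uu_pow {F : Type*} [Field F] (c : F) (k : ℕ) : uu c ^ k = uu (k * c) := by
  induction k with
  | zero =>
    rw [pow_zero, Nat.cast_zero, zero_mul]
    apply ext2
    · rw [one00]; rfl
    · rw [one01]; rfl
    · rw [one10]; rfl
    · rw [one11]; rfl
  | succ k ih => rw [pow_succ, ih, uu_mul]; congr 1; push_cast; ring

/-- fields of characteristic `≥ 5` -/
theorem psl_card_le (D : ReeAbs.Data m U h n) (hm : 1 ≤ m) (hK : Fintype.card K = 3 ^ (2 * m + 1))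
    (hG : commutator G = ⊤)
    (hcyc : ∀ x : G, x ≠ 1 → orderOf x ∣ (3 ^ (2 * m + 1)) ^ 2 - 3 ^ (2 * m + 1) + 1 →
      IsCyclic (centralizer {x}) ∧
        Nat.card (normalizer (centralizer {x} : Set G)) ∣ 6 * Nat.card (centralizer {x}))
    {F : Type*} [Field F] [Fintype F] {s : ℕ} [CharP F s] (hs : s.Prime) (hs5 : 5 ≤ s)
    (φ : ReePSL.L F →* G) (hφ : Function.Injective φ) : Fintype.card F ≤ 13 := by
  classical
  set x : G := φ (ReePSL.pr F (uu 1)) with hxdef
  have hs1 : Fact s.Prime := ⟨hs⟩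
  have hone : uu (0 : F) = 1 := by
    have := uu_pow (1 : F) 0
    rw [pow_zero, Nat.cast_zero, zero_mul] at this
    exact this.symm
  have hx : orderOf x = s := by
    apply orderOf_eq_prime
    · rw [hxdef, ← map_pow, ← map_pow, uu_pow, CharP.cast_eq_zero, zero_mul, hone, map_one, map_one]
    · intro h1
      have h2 : φ (ReePSL.pr F (uu 1)) = φ (ReePSL.pr F (uu 0)) := by rw [hone, map_one, map_one]; exact h1
      exact one_ne_zero (pr_uu_inj (hφ h2))
  have h6 := fusion_le D hm hK hG hcyc hs hs5 hx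
  let f : Fˣ → {y : G // (∃ g : G, g * x * g⁻¹ = y) ∧ y * x = x * y} := fun a =>
    ⟨φ (ReePSL.pr F (uu ((a : F) ^ 2))), by
      refine ⟨⟨φ (ReePSL.pr F (dd a)), ?_⟩, ?_⟩
      · rw [mul_inv_eq_iff_eq_mul, hxdef, ← map_mul, ← map_mul, ← map_mul, ← map_mul, dd_uu, mul_one]
      · rw [hxdef, ← map_mul, ← map_mul, ← map_mul, ← map_mul, uu_mul, uu_mul, add_comm]⟩
  have h7 := Finset.card_le_mul_card_image (f := f) Finset.univ 2 (by
    intro b hb
    obtain ⟨a, -, rfl⟩ := Finset.mem_image.1 hb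
    refine (Finset.card_le_card (t := {a, -a}) ?_).trans Finset.card_le_two
    intro c hc
    have h8 : φ (ReePSL.pr F (uu ((c : F) ^ 2))) = φ (ReePSL.pr F (uu ((a : F) ^ 2))) :=
      congrArg Subtype.val (Finset.mem_filter.1 hc).2
    have h9 : (c : F) ^ 2 = (a : F) ^ 2 := pr_uu_inj (hφ h8)
    rcases sq_eq_sq_iff_eq_or_eq_neg.1 h9 with h10 | h10
    · rw [Finset.mem_insert]; left; exact Units.ext h10
    · rw [Finset.mem_insert, Finset.mem_singleton]; right
      exact Units.ext (by rw [h10]; simp))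
  have hfin : Finite {y : G // (∃ g : G, g * x * g⁻¹ = y) ∧ y * x = x * y} := inferInstance
  have hft := Fintype.ofFinite {y : G // (∃ g : G, g * x * g⁻¹ = y) ∧ y * x = x * y}
  have h8 : (Finset.univ.image f).card ≤ 6 := by
    refine le_trans ?_ h6
    rw [Nat.card_eq_fintype_card]
    exact Finset.card_le_univ _
  rw [Finset.card_univ, Fintype.card_units] at h7
  omega

theorem prime_le_of_dvd {r Q : ℕ} (hr : r.Prime) (hQ : 2 ≤ Q) (h : r ∣ Q * (Q ^ 2 - 1)) : r ≤ Q + 1 := by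
  have h1 : Q ^ 2 - 1 = (Q + 1) * (Q - 1) := by
    have := Nat.sq_sub_sq Q 1
    rwa [one_pow] at this
  rw [h1, hr.dvd_mul, hr.dvd_mul] at h
  rcases h with h | h | h
  · have := Nat.le_of_dvd (by omega) h; omega
  · exact Nat.le_of_dvd (by omega) h
  · have := Nat.le_of_dvd (by omega) h; omega

/-- **Proper subgroups of order divisible by `r` are small.** -/
theorem card_le_of_dvd (D : ReeAbs.Data m U h n) (hm : 1 ≤ m) (hK : Fintype.card K = 3 ^ (2 * m + 1))
    (hG : commutator G = ⊤)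
    (hcyc : ∀ x : G, x ≠ 1 → orderOf x ∣ (3 ^ (2 * m + 1)) ^ 2 - 3 ^ (2 * m + 1) + 1 →
      IsCyclic (centralizer {x}) ∧
        Nat.card (normalizer (centralizer {x} : Set G)) ∣ 6 * Nat.card (centralizer {x}))
    (ft : EvenSimple.{w}) (wa : Walter.{w}) (hr : Zs m r) (X : Subgroup G) (hX : X ≠ ⊤)
    (hrX : r ∣ Nat.card X) : Nat.card X ≤ 6 * (3 ^ (2 * m + 1) + 3 ^ (m + 1) + 1) := by
  classical
  have : CharP K 3 := ReeAbs.charP_three hK
  have Dl := ReeSetup.local_of_data D hK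
  have ar := ReeClass.arith m
  obtain ⟨f, t₀, S⟩ := ReeSetup.exists_setup D hK hG Dl
  have hr19 := hr.ge hm
  have factr : Fact r.Prime := ⟨hr.prime⟩
  have fact2 : Fact (Nat.Prime 2) := ⟨Nat.prime_two⟩
  have hq27 : 27 ≤ 3 ^ (2 * m + 1) := by
    calc 27 = 3 ^ 3 := by norm_num
      _ ≤ 3 ^ (2 * m + 1) := Nat.pow_le_pow_right (by norm_num) (by omega)
  by_contra hcon
  have hmapbot : ∀ M : Subgroup X, M ≠ ⊥ → M.map X.subtype ≠ ⊥ := by
    intro M hM h0
    exact hM ((Subgroup.map_eq_bot_iff_of_injective _ X.subtype_injective).1 h0)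
  have hloc : ∀ s : ℕ, s.Prime → ∀ M : Subgroup X, M.Normal → IsPGroup s M → M = ⊥ := by
    intro s hs M hMn hMp
    by_contra hM1
    refine hcon (local_le D hm hK hG hcyc hr X hrX hs (M := M.map X.subtype) (hMp.map _) (hmapbot M hM1) ?_)
    rintro g hg _ ⟨x, hx, rfl⟩
    refine ⟨⟨g, hg⟩⁻¹ * x * ⟨g, hg⟩, ?_, rfl⟩
    have := hMn.conj_mem x hx (⟨g, hg⟩⁻¹)
    rwa [inv_inv] at this
  have hnt : Nontrivial X := by
    rw [← Finite.one_lt_card_iff_nontrivial]
    have := Nat.le_of_dvd Nat.card_pos hrX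
    omega
  obtain ⟨N, hN, hN1, hmin⟩ := Cfsg.Agent.S0553.exists_min_normal (G := X)
  obtain ⟨Y, k, hYN, hY, hk, ⟨e⟩⟩ := Cfsg.Agent.Lib.MinNormal.exists_mulEquiv_pi N hN1 hmin
  have hcardN : Nat.card N = Nat.card Y ^ k := by
    rw [Nat.card_congr e.toEquiv, Nat.card_pi, Finset.prod_const, Finset.card_univ, Fintype.card_fin]
  -- `Y` is not abelian
  have hYna : ¬ IsMulCommutative Y := by
    intro hYc
    have hpr : (Nat.card Y).Prime := by
      let _ : CommGroup Y := { (inferInstance : Group Y) with mul_comm := hYc.is_comm.comm }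
      exact IsSimpleGroup.prime_card
    apply hN1
    exact hloc _ hpr N hN (IsPGroup.of_card hcardN)
  have heven := ft Y hYna
  -- `r` divides the order of `N`
  have hrN : r ∣ Nat.card N := by
    by_contra hrN
    let P : Sylow 2 N := default
    have hfr := Sylow.normalizer_sup_eq_top P
    set H := normalizer ((P.map N.subtype : Subgroup X) : Set X) with hH
    have hP1 : (P : Subgroup N) ≠ ⊥ := by
      intro h0
      have h1 : ¬ 2 ∣ (P : Subgroup N).index := P.not_dvd_index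
      rw [h0, Subgroup.index_bot, hcardN] at h1
      exact h1 ((even_iff_two_dvd.1 heven).trans (dvd_pow_self _ hk.ne'))
    have hsurj : Function.Surjective ((QuotientGroup.mk' N).comp H.subtype) := by
      intro x
      obtain ⟨x, rfl⟩ := QuotientGroup.mk'_surjective N x
      have hx : x ∈ H ⊔ N := by rw [hfr]; trivial
      rw [← SetLike.mem_coe, Subgroup.mul_normal] at hx
      obtain ⟨a, ha, b, hb, rfl⟩ := hx
      refine ⟨⟨a, ha⟩, ?_⟩
      simp only [MonoidHom.comp_apply, Subgroup.coe_subtype, map_mul]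
      rw [(QuotientGroup.eq_one_iff b).2 hb |> (fun h => (h : QuotientGroup.mk' N b = 1)), mul_one]
    have h1 := Subgroup.card_dvd_of_surjective _ hsurj
    have h2 : r ∣ Nat.card (X ⧸ N) := by
      have h3 := Subgroup.card_eq_card_quotient_mul_card_subgroup N
      rw [h3, hr.prime.dvd_mul] at hrX
      exact hrX.resolve_right hrN
    obtain ⟨y, hy⟩ := exists_prime_orderOf_dvd_card' r (h2.trans h1)
    refine no_two Dl S hm hr (y := ((y : X) : G)) (by rw [Subgroup.orderOf_coe, Subgroup.orderOf_coe, hy])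
      (M := (P.map N.subtype).map X.subtype) ((P.isPGroup'.map _).map _) ?_ ?_
    · apply hmapbot
      intro h0
      exact hP1 ((Subgroup.map_eq_bot_iff_of_injective _ N.subtype_injective).1 h0)
    · rintro _ ⟨x, hx, rfl⟩
      exact ⟨y * x * y⁻¹, (mem_normalizer_iff.1 y.2 x).1 hx, rfl⟩
  have hrY : r ∣ Nat.card Y := by
    rw [hcardN] at hrN
    exact hr.prime.dvd_of_dvd_pow hrN
  -- `k = 1`
  have hk1 : k = 1 := by
    by_contra hk1
    obtain ⟨y, hy⟩ := exists_prime_orderOf_dvd_card' r hrY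
    obtain ⟨t, ht⟩ := exists_prime_orderOf_dvd_card' 2 (even_iff_two_dvd.1 heven)
    let i0 : Fin k := ⟨0, by omega⟩
    let i1 : Fin k := ⟨1, by omega⟩
    have hi : i0 ≠ i1 := by
      intro h
      have := congrArg Fin.val h
      simp [i0, i1] at this
    let φ : (Fin k → Y) →* G := (X.subtype.comp N.subtype).comp e.symm.toMonoidHom
    have hφ : Function.Injective φ :=
      (X.subtype_injective.comp N.subtype_injective).comp e.symm.injective
    have ho : ∀ (i : Fin k) (z : Y), orderOf (φ (Pi.mulSingle i z)) = orderOf z := by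
      intro i z
      rw [orderOf_injective φ hφ]
      refine orderOf_injective (MonoidHom.mulSingle (fun _ : Fin k => (Y : Type w)) i) ?_ z
      intro a b hab
      have := congrFun hab i
      simpa using this
    have hc : Commute (φ (Pi.mulSingle i0 y)) (φ (Pi.mulSingle i1 t)) :=
      (Pi.mulSingle_commute (f := fun _ : Fin k => (Y : Type w)) hi y t).map φ
    have ht2 : orderOf (φ (Pi.mulSingle i1 t)) = 2 := by rw [ho, ht]
    refine no_comm S hr (y := φ (Pi.mulSingle i0 y)) (t := φ (Pi.mulSingle i1 t)) (by rw [ho, hy]) ?_ ?_ hc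
    · intro h1
      rw [h1, orderOf_one] at ht2
      omega
    · rw [← pow_two, ← ht2, pow_orderOf_eq_one]
  -- the embedding of `Y`
  set ψ : Y →* G := X.subtype.comp Y.subtype with hψ
  have hψi : Function.Injective ψ := X.subtype_injective.comp Y.subtype_injective
  have hcardG : Nat.card G = (3 ^ (2 * m + 1)) ^ 3 * (3 ^ (2 * m + 1) - 1) * ((3 ^ (2 * m + 1)) ^ 3 + 1) := Dl.card_G
  have hYdvd : Nat.card Y ∣ Nat.card G := Subgroup.card_dvd_of_injective ψ hψi
  have hP8 : ∀ P : Sylow 2 G, Nat.card P = 8 := fun P => card_sylow_two Dl ar P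
  have hsq : ∀ P : Subgroup Y, IsPGroup 2 P → ∀ x ∈ P, x * x = 1 := by
    intro P hP x hx
    apply hψi
    rw [map_mul, map_one]
    exact S.two (P.map ψ) (hP.map ψ) (ψ x) ⟨x, hx, rfl⟩
  have hcomm : ∀ Q : Sylow 2 Y, IsMulCommutative (Q : Subgroup Y) := by
    intro Q
    refine ⟨⟨fun x y => Subtype.ext ?_⟩⟩
    have h1 : ∀ z ∈ (Q : Subgroup Y), z⁻¹ = z := fun z hz =>
      inv_eq_of_mul_eq_one_left (hsq _ Q.isPGroup' z hz)
    obtain ⟨x, hx⟩ := x
    obtain ⟨y, hy⟩ := y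
    change x * y = y * x
    have h2 := h1 _ (Q.mul_mem hx hy)
    rw [mul_inv_rev, h1 _ hx, h1 _ hy] at h2
    exact h2.symm
  rcases wa Y hYna default (hcomm _) with ⟨b, hb, F, hF1, hF2, hFc, ⟨g⟩⟩ | ⟨F, hF1, hF2, hFc, ⟨g⟩⟩ | hR | hJ
  · -- `PSL₂(2^b)`
    have h1 := Cfsg.Agent.SmallSimple.PSLTwoPart.card_psl_two_even (F := F)
      (by rw [hFc]; exact (Nat.even_pow.2 ⟨even_two, by omega⟩))
    rw [← Nat.card_congr g.toEquiv, hFc] at h1
    have h2 : 2 ^ b ∣ Nat.card Y := by rw [h1]; exact Nat.dvd_mul_right _ _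
    obtain ⟨Q, hQ⟩ := Sylow.exists_subgroup_card_pow_prime 2 h2
    have h3 : Nat.card (Q.map ψ) = 2 ^ b := by
      rw [← hQ]
      exact (Nat.card_congr (Q.equivMapOfInjective ψ hψi).toEquiv).symm
    obtain ⟨P, hP⟩ := (IsPGroup.of_card h3).exists_le_sylow
    have h4 := Subgroup.card_le_of_le hP
    rw [h3] at h4
    have h5 : Nat.card (P : Subgroup G) = 8 := hP8 P
    rw [h5] at h4
    have h6 : 2 ≤ 2 ^ b := by
      calc 2 = 2 ^ 1 := by norm_num
        _ ≤ 2 ^ b := Nat.pow_le_pow_right (by norm_num) (by omega)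
    rw [h1] at hrY
    have := prime_le_of_dvd hr.prime h6 hrY
    omega
  · -- `PSL₂(F)`, `#F` odd
    have hodd : Odd (Fintype.card F) := by rw [Nat.odd_iff]; omega
    have h1 := Cfsg.Agent.SmallSimple.PSLTwoPart.card_psl_two_odd (F := F) hodd
    rw [← Nat.card_congr g.toEquiv] at h1
    obtain ⟨s, hs⟩ := CharP.exists F
    obtain ⟨c, hsp, hc⟩ := FiniteField.card F s
    have hs2 : s ≠ 2 := by
      rintro rfl
      rw [hc] at hodd
      exact (Nat.not_odd_iff_even.2 (Nat.even_pow.2 ⟨even_two, c.ne_zero⟩)) hodd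
    have hFge : 2 ≤ Fintype.card F := by omega
    have hrF : r ∣ Fintype.card F * (Fintype.card F ^ 2 - 1) := by
      rw [← h1]; exact hrY.mul_left _
    by_cases hs3 : s = 3
    · subst hs3
      rw [hc, hr.prime.dvd_mul, ← pow_mul, hr.ord] at hrF
      have h2 : 6 * (2 * m + 1) ∣ c * 2 := hrF.resolve_left (hr.not_q _)
      have h3 : 3 * (2 * m + 1) ≤ c := by
        have := Nat.le_of_dvd (by have := c.pos; omega) h2
        omega
      have h4 : (3 ^ (2 * m + 1)) ^ 3 ≤ Fintype.card F := by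
        rw [hc, ← pow_mul, mul_comm (2 * m + 1) 3]
        exact Nat.pow_le_pow_right (by norm_num) h3
      have h5 := Nat.le_of_dvd Nat.card_pos hYdvd
      rw [hcardG] at h5
      generalize 3 ^ (2 * m + 1) = q at h4 h5 hq27
      have h6 : q ^ 3 * ((q ^ 3) ^ 2 - 1) ≤ Fintype.card F * (Fintype.card F ^ 2 - 1) :=
        Nat.mul_le_mul h4 (Nat.sub_le_sub_right (Nat.pow_le_pow_left h4 2) 1)
      rw [← h1] at h6
      have h7 : (q ^ 3) ^ 2 - 1 = (q ^ 3 + 1) * (q ^ 3 - 1) := by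
        have := Nat.sq_sub_sq (q ^ 3) 1
        rwa [one_pow] at this
      rw [h7] at h6
      have h8 : q ^ 3 * ((q ^ 3 + 1) * (q ^ 3 - 1)) ≤ q ^ 3 * ((q ^ 3 + 1) * (2 * (q - 1))) := by
        calc q ^ 3 * ((q ^ 3 + 1) * (q ^ 3 - 1)) ≤ 2 * Nat.card Y := h6
          _ ≤ 2 * (q ^ 3 * (q - 1) * (q ^ 3 + 1)) := Nat.mul_le_mul_left _ h5
          _ = _ := by ring
      have h9 := Nat.le_of_mul_le_mul_left (Nat.le_of_mul_le_mul_left h8 (by positivity)) (by positivity)
      have h10 : 27 * q ≤ q ^ 3 := by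
        calc 27 * q ≤ q * q := Nat.mul_le_mul_right _ hq27
          _ ≤ q * q * q := Nat.le_mul_of_pos_right _ (by omega)
          _ = q ^ 3 := by ring
      omega
    · have hs5 : 5 ≤ s := by
        have := hsp.two_le
        by_contra h
        interval_cases s
        · exact hs2 rfl
        · exact hs3 rfl
        · exact absurd hsp (by norm_num)
      have h2 := psl_card_le D hm hK hG hcyc (F := F) hsp hs5 (ψ.comp g.symm.toMonoidHom)
        (hψi.comp g.symm.injective)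
      have h3 := prime_le_of_dvd hr.prime hFge hrF
      omega
  · -- Ree type
    obtain ⟨-, l, hl, hlc⟩ := hR
    have h2 : m ≤ l := by
      rw [hlc, hr.prime.dvd_mul, hr.prime.dvd_mul, ← pow_mul] at hrY
      rcases hrY with (h1 | h1) | h1
      · exact absurd h1 (hr.not_q _)
      · have h2 : r ∣ 3 ^ ((2 * l + 1) * 6) - 1 := by
          have h3 : 3 ^ ((2 * l + 1) * 6) - 1 = (3 ^ ((2 * l + 1) * 3) + 1) * (3 ^ ((2 * l + 1) * 3) - 1) := by
            have h4 := Nat.sq_sub_sq (3 ^ ((2 * l + 1) * 3)) 1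
            rw [one_pow, ← pow_mul] at h4
            rw [← h4]
            congr 2; ring
          rw [h3]
          exact h1.mul_right _
        rw [hr.ord] at h2
        have := Nat.le_of_dvd (by omega) h2
        omega
      · rw [hr.ord] at h1
        have := Nat.le_of_dvd (by omega) h1
        omega
    have h3 : Nat.card G ≤ Nat.card Y := by
      rw [hcardG, hlc]
      have h4 : 3 ^ (2 * m + 1) ≤ 3 ^ (2 * l + 1) := Nat.pow_le_pow_right (by norm_num) (by omega)
      calc (3 ^ (2 * m + 1)) ^ 3 * (3 ^ (2 * m + 1) - 1) * ((3 ^ (2 * m + 1)) ^ 3 + 1) =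
          (3 ^ (2 * m + 1)) ^ 3 * ((3 ^ (2 * m + 1)) ^ 3 + 1) * (3 ^ (2 * m + 1) - 1) := by ring
        _ ≤ _ := Nat.mul_le_mul (Nat.mul_le_mul (Nat.pow_le_pow_left h4 3)
          (Nat.add_le_add_right (Nat.pow_le_pow_left h4 3) 1)) (Nat.sub_le_sub_right h4 1)
    apply hX
    rw [← Subgroup.card_eq_iff_eq_top]
    apply le_antisymm (Subgroup.card_le_card_group X)
    exact h3.trans (Subgroup.card_le_card_group Y)
  · -- `J₁`
    obtain ⟨-, hJc⟩ := hJ
    have h5 : 5 ∣ Nat.card G := by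
      refine Dvd.dvd.trans ?_ hYdvd
      rw [hJc]; norm_num
    rw [hcardG] at h5
    have h6 : 3 ^ (2 * m + 1) % 5 = 3 ∨ 3 ^ (2 * m + 1) % 5 = 2 := by
      rw [pow_succ, pow_mul]
      have : ∀ k : ℕ, (3 ^ 2) ^ k % 5 = 1 ∨ (3 ^ 2) ^ k % 5 = 4 := by
        intro k
        induction k with
        | zero => left; norm_num
        | succ k ih => rw [pow_succ]; omega
      have := this m
      omega
    have h7 : 3 ^ (2 * m + 1) % 5 ≠ 0 ∧ (3 ^ (2 * m + 1) - 1) % 5 ≠ 0 := by omega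
    have h8 : ((3 ^ (2 * m + 1)) ^ 3 + 1) % 5 ≠ 0 := by
      rcases h6 with h6 | h6
      · rw [Nat.add_mod, Nat.pow_mod, h6]; norm_num
      · rw [Nat.add_mod, Nat.pow_mod, h6]; norm_num
    have hp5 : Nat.Prime 5 := by norm_num
    rw [hp5.dvd_mul, hp5.dvd_mul] at h5
    rcases h5 with (h5 | h5) | h5
    · exact h7.1 (Nat.mod_eq_zero_of_dvd (hp5.dvd_of_dvd_pow h5))
    · exact h7.2 (Nat.mod_eq_zero_of_dvd h5)
    · exact h8 (Nat.mod_eq_zero_of_dvd h5)

/-- no proper subgroup has order divisible by `q³ + 1` -/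
theorem eq_top_of_dvd (D : ReeAbs.Data m U h n) (hm : 1 ≤ m) (hK : Fintype.card K = 3 ^ (2 * m + 1))
    (hG : commutator G = ⊤)
    (hcyc : ∀ x : G, x ≠ 1 → orderOf x ∣ (3 ^ (2 * m + 1)) ^ 2 - 3 ^ (2 * m + 1) + 1 →
      IsCyclic (centralizer {x}) ∧
        Nat.card (normalizer (centralizer {x} : Set G)) ∣ 6 * Nat.card (centralizer {x}))
    (ft : EvenSimple.{w}) (wa : Walter.{w}) (X : Subgroup G)
    (hX : (3 ^ (2 * m + 1)) ^ 3 + 1 ∣ Nat.card X) : X = ⊤ := by
  by_contra hcon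
  obtain ⟨r, hr⟩ := exists_zs m
  have h1 : r ∣ Nat.card X := by
    refine (hr.dvd_Q.trans ?_).trans hX
    rw [(ReeClass.arith m).cube]
    exact Nat.dvd_mul_left _ _
  have h2 := card_le_of_dvd D hm hK hG hcyc ft wa hr X hcon h1
  have h3 := Nat.le_of_dvd Nat.card_pos hX
  have hq27 : 27 ≤ 3 ^ (2 * m + 1) := by
    calc 27 = 3 ^ 3 := by norm_num
      _ ≤ 3 ^ (2 * m + 1) := Nat.pow_le_pow_right (by norm_num) (by omega)
  have h4 : 3 ^ (m + 1) ≤ 3 ^ (2 * m + 1) := Nat.pow_le_pow_right (by norm_num) (by omega)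
  have h5 : 27 * 3 ^ (2 * m + 1) ≤ (3 ^ (2 * m + 1)) ^ 3 := by
    generalize 3 ^ (2 * m + 1) = q at hq27 ⊢
    calc 27 * q ≤ q * q := Nat.mul_le_mul_right _ hq27
      _ ≤ q * q * q := Nat.le_mul_of_pos_right _ (by omega)
      _ = q ^ 3 := by ring
  omega

end main

end Cfsg.Agent.H125.ReeSub
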