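import Cfsg.Agent.H125.ReeSub
import Cfsg.Agent.H125.TwoReeSyl
import Cfsg.Agent.LieRecognition.ReeFinal
import Cfsg.Agent.LieRecognition.ReeTorusTw
import Cfsg.Agent.S1116
import Cfsg.Agent.S0205
import Cfsg.Agent.S0506

/-!
# 2-transitive groups with socle a small Ree group: the degree is `q³ + 1`

* `eq_top_of_dvd` : a subgroup of `²G₂(q)`, `q ≥ 27`, of order divisible by `q³ + 1` is the whole group;
* `ree_row` : HUB H1, row of the Ree groups.
-/

set_option autoImplicit false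
set_option linter.unusedSectionVars false

namespace Cfsg.Agent.H125.TwoRee

open MulAction
open Cfsg.Agent.H384.TwoTrans

universe u v w

theorem evenSimple : ReeSub.EvenSimple.{w} := by
  intro X _ _ _ hX
  rcases Nat.even_or_odd (Nat.card X) with h | h
  · exact h
  · exfalso
    have hsol : Group.IsSolvable X := Cfsg.Agent.S0205.result h
    exact hX ⟨⟨IsSimpleGroup.comm_iff_isSolvable.2 hsol⟩⟩

theorem walter : ReeSub.Walter.{w} := by
  intro X _ _ _ hX S hS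
  exact Cfsg.Agent.S0506.result hX S hS

theorem finite_ree {K : Type w} [Field K] [Fintype K] {m : ℕ} (hm : 1 ≤ m)
    (hK : Fintype.card K = 3 ^ (2 * m + 1)) : Finite ↥(Cfsg.Lie.twistedG2 K (3 ^ m)) := by
  apply Nat.finite_of_card_ne_zero
  rw [Cfsg.Agent.LieRecognition.ReeFinal.card hK]
  have h1 : 0 < 3 ^ (2 * m + 1) := by positivity
  have h2 : 0 < 3 ^ (2 * m + 1) - 1 := by
    have : 3 ^ 1 ≤ 3 ^ (2 * m + 1) := Nat.pow_le_pow_right (by norm_num) (by omega)
    omega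
  positivity

/-- a proper subgroup of order divisible by a primitive prime divisor of `q⁶ - 1` is small -/
theorem card_le_of_dvd {K : Type w} [Field K] [Fintype K] {m : ℕ} (hm : 1 ≤ m)
    (hK : Fintype.card K = 3 ^ (2 * m + 1)) {r : ℕ} (hr : ReeSub.Zs m r)
    (X : Subgroup ↥(Cfsg.Lie.twistedG2 K (3 ^ m))) (hX : X ≠ ⊤) (hrX : r ∣ Nat.card X) :
    Nat.card X ≤ 6 * (3 ^ (2 * m + 1) + 3 ^ (m + 1) + 1) := by
  have hfin := finite_ree hm hK
  exact Cfsg.Agent.H125.ReeSub.card_le_of_dvd (Cfsg.Agent.LieRecognition.ReeFinal.data hK) hm hK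
    (Cfsg.Agent.S1116.result hK hm)
    (fun x hx hx1 => Cfsg.Agent.LieRecognition.ReeTorusTw.isCyclic_centralizer hK hx hx1)
    evenSimple walter hr X hX hrX

/-- no proper subgroup of `²G₂(q)` has order divisible by `q³ + 1` -/
theorem eq_top_of_dvd {K : Type w} [Field K] [Fintype K] {m : ℕ} (hm : 1 ≤ m)
    (hK : Fintype.card K = 3 ^ (2 * m + 1)) (X : Subgroup ↥(Cfsg.Lie.twistedG2 K (3 ^ m)))
    (hX : (3 ^ (2 * m + 1)) ^ 3 + 1 ∣ Nat.card X) : X = ⊤ := by
  have hfin := finite_ree hm hK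
  exact Cfsg.Agent.H125.ReeSub.eq_top_of_dvd (Cfsg.Agent.LieRecognition.ReeFinal.data hK) hm hK
    (Cfsg.Agent.S1116.result hK hm)
    (fun x hx hx1 => Cfsg.Agent.LieRecognition.ReeTorusTw.isCyclic_centralizer hK hx hx1)
    evenSimple walter X hX

theorem card_sylow {K : Type w} [Field K] [Fintype K] {m : ℕ}
    (hK : Fintype.card K = 3 ^ (2 * m + 1)) :
    Nat.card (Sylow 3 ↥(Cfsg.Lie.twistedG2 K (3 ^ m))) = (3 ^ (2 * m + 1)) ^ 3 + 1 :=
  (TwoReeSyl.exists_sylow_card (Cfsg.Agent.LieRecognition.ReeFinal.data hK) hK).choose_spec.2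

theorem two_sylow {K : Type w} [Field K] [Fintype K] {m : ℕ}
    (hK : Fintype.card K = 3 ^ (2 * m + 1)) :
    IsMultiplyPretransitive ↥(Cfsg.Lie.twistedG2 K (3 ^ m)) (Sylow 3 ↥(Cfsg.Lie.twistedG2 K (3 ^ m))) 2 :=
  TwoReeSyl.two (Cfsg.Agent.LieRecognition.ReeFinal.data hK) hK

/-- **HUB H1, the small Ree groups.** -/
theorem ree_row {G : Type u} {Ω : Type v} [Group G] [MulAction G Ω] (T : Subgroup G) (A : AS G Ω T)
    (h : Cfsg.Lie.IsoRee T) : Known2 T (Nat.card Ω) := by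
  obtain ⟨K, hF, hFin, m, hm, hK, ⟨e⟩⟩ := h
  have hfact : Fact (Nat.Prime 3) := ⟨Nat.prime_three⟩
  refine Known2.ree K m _ hm hK ⟨e⟩ ?_
  rw [TwoSyl.card_eq_of_sylow A e (p := 3) (two_sylow hK)
    (fun D hD => eq_top_of_dvd hm hK D (by rwa [card_sylow hK] at hD)), card_sylow hK, hK]

end Cfsg.Agent.H125.TwoRee
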