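import Cfsg.Agent.H384.TwoTransRed
import Cfsg.Agent.H125.TwoAct

/-!
# The degree of a 2-transitive action of an almost simple group with a 2-transitive action on Sylow subgroups

If the socle `T` acts 2-transitively on `Sylow p T` and no proper subgroup of `T` has order divisible by the number
`N` of Sylow `p`-subgroups, then every 2-transitive action of an almost simple group with socle `T` has degree `N`.
-/

set_option autoImplicit false
set_option linter.unusedSectionVars false

namespace Cfsg.Agent.H125.TwoSyl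

open MulAction Cfsg.Agent.H384.TwoTrans

universe u v w

section syl

variable {X : Type w} [Group X] [Finite X] {p : ℕ} [Fact p.Prime]

/-- trivially intersecting Sylow subgroups, their number `#P + 1`: 2-transitivity -/
theorem two_of_TI (hTI : ∀ P Q : Sylow p X, P ≠ Q → (P : Subgroup X) ⊓ (Q : Subgroup X) = ⊥) (P₀ : Sylow p X)
    (hc : Nat.card (Sylow p X) = Nat.card P₀ + 1) : IsMultiplyPretransitive X (Sylow p X) 2 := by
  classical
  have hfin : Finite (Sylow p X) := inferInstance
  have hcard : ∀ P : Sylow p X, Nat.card P = Nat.card P₀ := fun P => Nat.card_congr (P.equiv P₀).toEquiv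
  -- `P` is transitive on the others
  have key : ∀ P Q R : Sylow p X, Q ≠ P → R ≠ P → ∃ x ∈ (P : Subgroup X), x • Q = R := by
    intro P Q R hQ hR
    have hinj : Function.Injective (fun x : (P : Subgroup X) => (x : X) • Q) := by
      intro x y hxy
      have h1 : ((y : X)⁻¹ * x) • Q = Q := by
        rw [mul_smul, inv_smul_eq_iff]; exact hxy
      have h2 : ((y : X)⁻¹ * x) ∈ (P : Subgroup X) := mul_mem (inv_mem y.2) x.2
      have h3 : ((y : X)⁻¹ * x) ∈ Subgroup.normalizer ((Q : Subgroup X) : Set X) :=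
        Sylow.smul_eq_iff_mem_normalizer.1 h1
      have h4 : ((y : X)⁻¹ * x) ∈ (Q : Subgroup X) := by
        have h5 : IsPGroup p (Subgroup.zpowers ((y : X)⁻¹ * x)) :=
          P.2.to_le (by rw [Subgroup.zpowers_le]; exact h2)
        have h6 : Subgroup.zpowers ((y : X)⁻¹ * x) ≤ Subgroup.normalizer ((Q : Subgroup X) : Set X) := by
          rw [Subgroup.zpowers_le]; exact h3
        have h7 : Subgroup.zpowers ((y : X)⁻¹ * x) ⊓ Subgroup.normalizer ((Q : Subgroup X) : Set X) =
          Subgroup.zpowers ((y : X)⁻¹ * x) ⊓ (Q : Subgroup X) := h5.inf_normalizer_sylow Q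
        rw [inf_eq_left.2 h6] at h7
        exact (inf_eq_left.1 h7.symm) (Subgroup.mem_zpowers _)
      have h5 : ((y : X)⁻¹ * x) ∈ (P : Subgroup X) ⊓ (Q : Subgroup X) := ⟨h2, h4⟩
      rw [hTI P Q hQ.symm, Subgroup.mem_bot] at h5
      exact Subtype.ext (inv_mul_eq_one.1 h5).symm
    have hP : ∀ x : (P : Subgroup X), (x : X) • Q ≠ P := by
      intro x hx
      apply hQ
      have h1 : (x : X) • P = P := by
        rw [Sylow.smul_eq_iff_mem_normalizer]
        exact Subgroup.le_normalizer x.2
      exact MulAction.injective (x : X) (hx.trans h1.symm)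
    let f : ↥(P : Subgroup X) → {S : Sylow p X // S ≠ P} := fun x => ⟨(x : X) • Q, hP x⟩
    have hf : Function.Injective f := fun x y hxy => hinj (congrArg Subtype.val hxy)
    have hcf : Nat.card (P : Subgroup X) = Nat.card {S : Sylow p X // S ≠ P} := by
      have h1 : Nat.card {S : Sylow p X // S ≠ P} + 1 = Nat.card (Sylow p X) := by
        have := Fintype.ofFinite (Sylow p X)
        rw [Nat.card_eq_fintype_card, Nat.card_eq_fintype_card, Fintype.card_subtype_compl,
          Fintype.card_subtype_eq]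
        have : 0 < Fintype.card (Sylow p X) := Fintype.card_pos_iff.2 ⟨P⟩
        omega
      have h2 := hcard P
      omega
    have hbij : Function.Bijective f := by
      rw [Nat.bijective_iff_injective_and_card]
      exact ⟨hf, hcf⟩
    obtain ⟨x, hx⟩ := hbij.2 ⟨R, hR⟩
    exact ⟨x, x.2, congrArg Subtype.val hx⟩
  rw [is_two_pretransitive_iff]
  intro P Q P' Q' hPQ hPQ'
  obtain ⟨g, hg⟩ := exists_smul_eq X P P'
  have h1 : g • Q ≠ P' := by
    rw [← hg]
    intro h
    exact hPQ (MulAction.injective g h).symm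
  obtain ⟨x, hx, hxQ⟩ := key P' (g • Q) Q' h1 hPQ'.symm
  refine ⟨x * g, ?_, ?_⟩
  · rw [mul_smul, hg, Sylow.smul_eq_iff_mem_normalizer]
    exact Subgroup.le_normalizer hx
  · rw [mul_smul, hxQ]

/-- 2-transitivity on the cosets of the normaliser gives 2-transitivity on the Sylow subgroups -/
theorem two_of_cosets (S : Sylow p X)
    (h : IsMultiplyPretransitive X (X ⧸ Subgroup.normalizer ((S : Subgroup X) : Set X)) 2) :
    IsMultiplyPretransitive X (Sylow p X) 2 := by
  rw [is_two_pretransitive_iff] at h ⊢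
  intro P Q P' Q' hPQ hPQ'
  obtain ⟨a, rfl⟩ := exists_smul_eq X S P
  obtain ⟨b, rfl⟩ := exists_smul_eq X S Q
  obtain ⟨c, rfl⟩ := exists_smul_eq X S P'
  obtain ⟨d, rfl⟩ := exists_smul_eq X S Q'
  have key : ∀ x y : X, (QuotientGroup.mk x : X ⧸ Subgroup.normalizer ((S : Subgroup X) : Set X)) =
      QuotientGroup.mk y ↔ x • S = y • S := by
    intro x y
    have h3 : x⁻¹ * y ∈ Subgroup.normalizer ((S : Subgroup X) : Set X) ↔ (x⁻¹ * y) • S = S :=
      Sylow.smul_eq_iff_mem_normalizer.symm
    rw [QuotientGroup.eq, h3, mul_smul, inv_smul_eq_iff]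
    exact eq_comm
  obtain ⟨g, h1, h2⟩ := h (a := QuotientGroup.mk a) (b := QuotientGroup.mk b) (c := QuotientGroup.mk c)
    (d := QuotientGroup.mk d) (fun h' => hPQ ((key a b).1 h')) (fun h' => hPQ' ((key c d).1 h'))
  refine ⟨g, ?_, ?_⟩
  · rw [← mul_smul]; exact (key _ _).1 h1
  · rw [← mul_smul]; exact (key _ _).1 h2

end syl

variable {G : Type u} {Ω : Type v} [Group G] [MulAction G Ω] {T : Subgroup G}

theorem card_eq_of_sylow (A : AS G Ω T) {X : Type w} [Group X] (e : T ≃* X) {p : ℕ} [Fact p.Prime]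
    (h2 : IsMultiplyPretransitive X (Sylow p X) 2)
    (hsub : ∀ D : Subgroup X, Nat.card (Sylow p X) ∣ Nat.card D → D = ⊤) :
    Nat.card Ω = Nat.card (Sylow p X) := by
  classical
  have hG := A.finG
  have hΩ := A.finΩ
  have hTn := A.normal
  have hT := A.transitive
  have hTfin := A.finT
  have hX : Finite X := Finite.of_equiv _ e.toEquiv
  have hS : Finite (Sylow p X) := inferInstance
  have := Fintype.ofFinite Ω
  have := Fintype.ofFinite (Sylow p X)
  by_contra hne
  rw [Nat.card_eq_fintype_card, Nat.card_eq_fintype_card] at hne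
  let φ : G →* MulAut X := (MulAut.congr e).toMonoidHom.comp MulAut.conjNormal
  have hφ : ∀ t : T, φ t = MulAut.conj (e t) := by
    intro t
    ext x
    show e (MulAut.conjNormal (t : G) (e.symm x)) = e t * x * (e t)⁻¹
    have h1 : MulAut.conjNormal (t : G) (e.symm x) = t * e.symm x * t⁻¹ := by
      apply Subtype.ext
      rw [MulAut.conjNormal_apply]
      rfl
    rw [h1, map_mul, map_mul, map_inv, MulEquiv.apply_symm_apply]
  let act : MulAction G (Sylow p X) := MulAction.compHom (Sylow p X) φ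
  have hact : ∀ (g : G) (P : Sylow p X), g • P = φ g • P := fun _ _ => rfl
  have hactT : ∀ (t : T) (P : Sylow p X), (t : G) • P = e t • P := by
    intro t P
    rw [hact, hφ]
    rfl
  have h2' : IsMultiplyPretransitive G (Sylow p X) 2 := by
    rw [is_two_pretransitive_iff]
    intro P Q P' Q' h h'
    obtain ⟨x, h3, h4⟩ := is_two_pretransitive_iff.1 h2 h h'
    refine ⟨(e.symm x : G), ?_, ?_⟩
    · rw [hactT, MulEquiv.apply_symm_apply, h3]
    · rw [hactT, MulEquiv.apply_symm_apply, h4]
  have ht : ∀ a b : Ω, ∃ g ∈ T, g • a = b := by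
    intro a b
    obtain ⟨t, h⟩ := exists_smul_eq T a b
    exact ⟨t, t.2, h⟩
  have ht' : ∀ P Q : Sylow p X, ∃ g ∈ T, g • P = Q := by
    intro P Q
    obtain ⟨x, h⟩ := exists_smul_eq X P Q
    refine ⟨(e.symm x : G), (e.symm x).2, ?_⟩
    rw [hactT, MulEquiv.apply_symm_apply, h]
  have hnt := A.nontrivialΩ
  obtain ⟨ω, ω', hωω'⟩ := exists_pair_ne Ω
  have key := fun P Q : Sylow p X => Cfsg.Agent.H125.TwoAct.normal_stabilizer_transitive (Ω := Sylow p X) (Δ := Ω)
    h2' A.two (fun h => hne h.symm) T hTn ht' ht ω P Q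
  -- the stabiliser
  let D : Subgroup X := (stabilizer T ω).map e.toMonoidHom
  have hD : IsPretransitive D (Sylow p X) := by
    constructor
    intro P Q
    obtain ⟨g, hgT, hgω, hg⟩ := key P Q
    refine ⟨⟨e ⟨g, hgT⟩, ⟨g, hgT⟩, hgω, rfl⟩, ?_⟩
    show e ⟨g, hgT⟩ • P = Q
    rw [← hactT ⟨g, hgT⟩ P]
    exact hg
  obtain ⟨P⟩ : Nonempty (Sylow p X) := inferInstance
  have hdvd : Nat.card (Sylow p X) ∣ Nat.card D := by
    have h1 := MulAction.index_stabilizer_of_transitive D P
    rw [← h1]
    exact Subgroup.index_dvd_card _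
  have hDtop := hsub D hdvd
  have hstab : stabilizer T ω = ⊤ := by
    rw [eq_top_iff]
    intro t _
    have h1 : e t ∈ D := hDtop ▸ Subgroup.mem_top _
    obtain ⟨s, hs, hst⟩ := h1
    have h3 : s = t := e.injective hst
    rw [← h3]; exact hs
  obtain ⟨t, h⟩ := exists_smul_eq T ω ω'
  apply hωω'
  rw [← h]
  have : t ∈ stabilizer T ω := hstab ▸ Subgroup.mem_top _
  exact (mem_stabilizer_iff.1 this).symm

end Cfsg.Agent.H125.TwoSyl
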